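import Groth.Agent.WEtReducedLib.Basic
import Groth.Prelude.Def_PBC
import Mathlib.AlgebraicGeometry.Morphisms.WeaklyEtale

/-! Sections over affine schemes with w-contractible rings. -/

set_option autoImplicit false
set_option linter.style.haveILetI false
set_option backward.isDefEq.respectTransparency false
universe u

open CategoryTheory CategoryTheory.Limits AlgebraicGeometry

namespace Groth.Agent.WCSiteLib

theorem weaklyEtale_specMap (R S : Type u) [CommRing R] [CommRing S] [Algebra R S] [Algebra.WeaklyEtale R S] :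
    WeaklyEtale (Spec.map (CommRingCat.ofHom (algebraMap R S))) := by
  haveI : MorphismProperty.RespectsIso (@Flat : MorphismProperty Scheme.{u}) := MorphismProperty.IsStableUnderBaseChange.respectsIso
  refine ⟨(HasRingHomProperty.Spec_iff (P := @Flat)).2 (RingHom.flat_algebraMap_iff.2 inferInstance), ?_⟩
  rw [diagonal_SpecMap]
  exact (MorphismProperty.cancel_right_of_respectsIso (P := @Flat) _ _).2
    ((HasRingHomProperty.Spec_iff (P := @Flat)).2 (Algebra.WeaklyEtale.flat_lmul' R S))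

theorem isIso_fromSpec_top (U : Scheme.{u}) [IsAffine U] : IsIso (isAffineOpen_top U).fromSpec := by
  haveI : Surjective (isAffineOpen_top U).fromSpec :=
    ⟨fun x => (isAffineOpen_top U).range_fromSpec.ge (show x ∈ ((⊤ : U.Opens) : Set U) from trivial)⟩
  exact (isIso_iff_isOpenImmersion_and_surjective _).mpr ⟨inferInstance, inferInstance⟩

theorem exists_section {U V : Scheme.{u}} [IsAffine U] [IsAffine V] (π : V ⟶ U) [WeaklyEtale π] [Surjective π]
    (h : EtPBC.IsWContractible ↥(Γ(U, ⊤))) : ∃ σ : U ⟶ V, σ ≫ π = 𝟙 U := by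
  haveI := isIso_fromSpec_top U
  haveI := isIso_fromSpec_top V
  let e : (⊤ : V.Opens) ≤ π ⁻¹ᵁ (⊤ : U.Opens) := le_of_eq rfl
  letI := (π.appLE ⊤ ⊤ e).hom.toAlgebra
  haveI := WEtReducedLib.weaklyEtale_appLE π (isAffineOpen_top V) (isAffineOpen_top U) e
  have hsq : Spec.map (π.appLE ⊤ ⊤ e) ≫ (isAffineOpen_top U).fromSpec = (isAffineOpen_top V).fromSpec ≫ π :=
    (isAffineOpen_top U).SpecMap_appLE_fromSpec π (isAffineOpen_top V) e
  haveI : Surjective (Spec.map (π.appLE ⊤ ⊤ e)) := by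
    rw [show Spec.map (π.appLE ⊤ ⊤ e) = ((isAffineOpen_top V).fromSpec ≫ π) ≫ inv (isAffineOpen_top U).fromSpec by
      rw [IsIso.eq_comp_inv, hsq]]
    infer_instance
  haveI : Module.Flat ↥(Γ(U, ⊤)) ↥(Γ(V, ⊤)) := inferInstance
  haveI hff : Module.FaithfullyFlat ↥(Γ(U, ⊤)) ↥(Γ(V, ⊤)) :=
    Module.FaithfullyFlat.of_comap_surjective fun p => Surjective.surj (f := Spec.map (π.appLE ⊤ ⊤ e)) p
  obtain ⟨r⟩ := h ↥(Γ(V, ⊤)) hff inferInstance
  let rr : Γ(V, ⊤) ⟶ Γ(U, ⊤) := CommRingCat.ofHom r.toRingHom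
  refine ⟨inv (isAffineOpen_top U).fromSpec ≫ Spec.map rr ≫ (isAffineOpen_top V).fromSpec, ?_⟩
  rw [Category.assoc, Category.assoc, ← hsq, IsIso.inv_comp_eq, Category.comp_id, ← Category.assoc, ← Spec.map_comp,
    show π.appLE ⊤ ⊤ e ≫ rr = 𝟙 _ by ext a; exact r.commutes a, Spec.map_id, Category.id_comp]

theorem retraction_of_sections {U : Scheme.{u}} [IsAffine U]
    (h : ∀ (V : Scheme.{u}) [IsAffine V] (π : V ⟶ U) [WeaklyEtale π] [Surjective π], ∃ σ : U ⟶ V, σ ≫ π = 𝟙 U) :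
    EtPBC.IsWContractible ↥(Γ(U, ⊤)) := by
  intro B _ _ hff hB
  haveI := isIso_fromSpec_top U
  haveI := weaklyEtale_specMap ↥(Γ(U, ⊤)) B
  let φ : Γ(U, ⊤) ⟶ CommRingCat.of B := CommRingCat.ofHom (algebraMap ↥(Γ(U, ⊤)) B)
  haveI : WeaklyEtale (Spec.map φ) := weaklyEtale_specMap ↥(Γ(U, ⊤)) B
  haveI : Surjective (Spec.map φ) := ⟨PrimeSpectrum.comap_surjective_of_faithfullyFlat (A := ↥(Γ(U, ⊤))) (B := B)⟩
  obtain ⟨σ, hσ⟩ := h (Spec (CommRingCat.of B)) (Spec.map φ ≫ (isAffineOpen_top U).fromSpec)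
  obtain ⟨r, hr⟩ := Spec.map_surjective ((isAffineOpen_top U).fromSpec ≫ σ)
  have hid : φ ≫ r = 𝟙 _ := by
    refine Spec.map_injective ?_
    rw [Spec.map_comp, hr, Spec.map_id]
    rw [← cancel_mono (isAffineOpen_top U).fromSpec, Category.assoc, Category.assoc, hσ, Category.comp_id, Category.id_comp]
  exact ⟨{ r.hom with commutes' := fun a => ConcreteCategory.congr_hom hid a }⟩

end Groth.Agent.WCSiteLib
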