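import Groth.Agent.ProEtPtsLib.Cover
import Groth.Agent.WCSiteLib.Spec
import Groth.Prelude.Def_ProEtS
import Mathlib.CategoryTheory.Sites.LocallySurjective

/-! Weakly contractible affine objects of the small pro-étale site. -/

set_option autoImplicit false
set_option linter.style.haveILetI false
set_option backward.isDefEq.respectTransparency false
universe u

open CategoryTheory CategoryTheory.Limits AlgebraicGeometry Opposite

namespace Groth.Agent.WCSiteLib

open ProEtPtsLib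

variable {S : Scheme.{u}}

theorem exists_finite_affine' {W : S.ProEt} [IsAffine W.left] (T : Sieve W)
    (hT : T ∈ Scheme.ProEt.topology S W) :
    ∃ (n : ℕ) (Z : Fin n → S.ProEt) (g : ∀ k, Z k ⟶ W),
      (∀ k, IsAffine (Z k).left) ∧ (∀ k, T (g k)) ∧ Sieve.ofArrows Z g ∈ Scheme.ProEt.topology S W ∧
      ∀ x : W.left, ∃ k y, (und (g k)).base y = x := by
  have h1 := (CoverPreserving.of_isContinuous (Scheme.ProEt.forget S) (Scheme.ProEt.topology S)
    (Scheme.proetaleTopology.over S)).cover_preserve hT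
  rw [GrothendieckTopology.mem_over_iff] at h1
  haveI : Scheme.proetalePrecoverage.{u}.HasPullbacks := inferInstance
  obtain ⟨R, hR, hle⟩ := Precoverage.mem_toGrothendieck_iff_of_isStableUnderComposition.1 h1
  obtain ⟨𝒰, hqc, rfl⟩ := Scheme.mem_propQCPrecoverage_iff_exists_quasiCompactCover.1 hR
  haveI : IsAffine ((Scheme.ProEt.forget S).obj W).left := ‹_›
  obtain ⟨n, i, V, hV, hcov⟩ := QuasiCompactCover.exists_isAffineOpen_of_isCompact 𝒰.toPreZeroHypercover
    (U := (⊤ : W.left.Opens)) isCompact_univ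
  have hwe : ∀ k, WeaklyEtale ((V k).ι ≫ 𝒰.f (i k)) := fun k => by
    have : WeaklyEtale (𝒰.f (i k)) := 𝒰.map_prop (i k)
    infer_instance
  let Z : Fin n → S.ProEt := fun k =>
    haveI : WeaklyEtale W.hom := W.prop
    haveI : WeaklyEtale (X := (V k : Scheme)) (Y := W.left) ((V k).ι ≫ 𝒰.f (i k)) := hwe k
    Scheme.ProEt.mk (X := (V k : Scheme)) (((V k).ι ≫ 𝒰.f (i k) : (V k : Scheme) ⟶ W.left) ≫ W.hom)
  let g : ∀ k, Z k ⟶ W := fun k => MorphismProperty.Over.homMk ((V k).ι ≫ 𝒰.f (i k)) rfl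
  refine ⟨n, Z, g, fun k => hV k, fun k => ?_, ?_, fun x => ?_⟩
  · have hk : (Sieve.overEquiv _ (T.functorPushforward (Scheme.ProEt.forget S))) (𝒰.f (i k)) :=
      hle _ _ ⟨i k⟩
    rw [Sieve.overEquiv_iff] at hk
    obtain ⟨Y, h, a, hh, e⟩ := hk
    let b : Z k ⟶ Y := MorphismProperty.Over.homMk ((V k).ι ≫ a.left) (by
      have := Over.w a
      simp only [Category.assoc]
      exact congrArg ((V k).ι ≫ ·) this)
    have : g k = b ≫ h := by
      apply (Scheme.ProEt.forget S).map_injective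
      ext1
      have e' := congrArg (·.left) e
      simp only [Over.homMk_left, Over.comp_left] at e'
      change (V k).ι ≫ 𝒰.f (i k) = ((V k).ι ≫ a.left) ≫ _
      exact (congrArg ((V k).ι ≫ ·) e').trans (Category.assoc _ _ _).symm
    rw [this]
    exact T.downward_closed hh b
  · let 𝒱 : Scheme.Cover.{u} (Scheme.precoverage @WeaklyEtale) W.left :=
      { I₀ := ULift.{u} (Fin n)
        X := fun k => (Z k.down).left
        f := fun k => und (g k.down)
        mem₀ := by
          rw [Scheme.presieve₀_mem_precoverage_iff]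
          refine ⟨fun x => ?_, fun k => hwe k.down⟩
          have hx : x ∈ ⋃ k, (𝒰.f (i k)) '' (V k : Set _) := by rw [hcov]; trivial
          obtain ⟨k, y, hy, rfl⟩ := Set.mem_iUnion.1 hx
          exact ⟨⟨k⟩, ⟨y, hy⟩, rfl⟩ }
    haveI : ∀ k : 𝒱.I₀, QuasiCompact (𝒱.f k) := fun k => by
      haveI : IsAffine (Z k.down).left := hV k.down
      exact inferInstanceAs (QuasiCompact (und (g k.down)))
    have hm : 𝒱.presieve₀ ∈ Scheme.proetalePrecoverage W.left :=
      ⟨Scheme.presieve₀_mem_qcPrecoverage_iff.2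
        (@QuasiCompactCover.of_finite _ _ 𝒱 _ ‹_› (inferInstanceAs (Finite (ULift.{u} (Fin n))))), 𝒱.mem₀⟩
    refine GrothendieckTopology.superset_covering _ ?_
      (ofArrows_mem_of_mem (fun k : ULift.{u} (Fin n) => Z k.down) (fun k => g k.down) hm)
    rw [Sieve.generate_le_iff]
    rintro _ _ ⟨k⟩
    exact Sieve.ofArrows_mk _ _ _
  · have hx : x ∈ ⋃ k, (𝒰.f (i k)) '' (V k : Set _) := by rw [hcov]; trivial
    obtain ⟨k, y, hy, rfl⟩ := Set.mem_iUnion.1 hx
    exact ⟨k, ⟨y, hy⟩, rfl⟩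

theorem single_mem {W Z : S.ProEt} [IsAffine W.left] [IsAffine Z.left] (g : Z ⟶ W) (hs : Surjective (und g)) :
    Sieve.ofArrows (fun _ : PUnit.{u + 1} => Z) (fun _ => g) ∈ Scheme.ProEt.topology S W := by
  haveI hwe : WeaklyEtale (und g) := by
    haveI : WeaklyEtale W.hom := W.prop
    haveI : WeaklyEtale (und g ≫ W.hom) := by
      rw [show und g ≫ W.hom = Z.hom from Over.w ((Scheme.ProEt.forget S).map g)]
      exact Z.prop
    exact WeaklyEtale.of_comp _ W.hom
  let 𝒱 : Scheme.Cover.{u} (Scheme.precoverage @WeaklyEtale) W.left :=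
    { I₀ := PUnit.{u + 1}
      X := fun _ => Z.left
      f := fun _ => und g
      mem₀ := by
        rw [Scheme.presieve₀_mem_precoverage_iff]
        exact ⟨fun x => ⟨PUnit.unit, hs.surj x⟩, fun _ => hwe⟩ }
  haveI : ∀ k : 𝒱.I₀, QuasiCompact (𝒱.f k) := fun _ => inferInstanceAs (QuasiCompact (und g))
  exact ofArrows_mem_of_mem _ _
    ⟨Scheme.presieve₀_mem_qcPrecoverage_iff.2
      (@QuasiCompactCover.of_finite _ _ 𝒱 _ ‹_› (inferInstanceAs (Finite PUnit.{u + 1}))), 𝒱.mem₀⟩

/-- An open subscheme as an object of the site. -/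
noncomputable def openObj (U : S.ProEt) (W : U.left.Opens) : S.ProEt :=
  haveI : WeaklyEtale U.hom := U.prop
  Scheme.ProEt.mk (W.ι ≫ U.hom)

/-- Its inclusion. -/
noncomputable def openι (U : S.ProEt) (W : U.left.Opens) : openObj U W ⟶ U :=
  MorphismProperty.Over.homMk W.ι rfl

/-- A finite decomposition by clopens. -/
def HasClopenRefinement (U : S.ProEt) (R : Sieve U) : Prop :=
  ∃ (n : ℕ) (W : Fin n → U.left.Opens),
    (∀ k, IsClopen ((W k : Set ↥U.left))) ∧
    Pairwise (fun k l => Disjoint (W k : Set ↥U.left) (W l)) ∧ (⋃ k, (W k : Set ↥U.left)) = Set.univ ∧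
    ∀ k, R.arrows (openι U (W k))

theorem clopenRefinement_of_wContractible (U : S.ProEt) [IsAffine U.left]
    (h : EtPBC.IsWContractible ↥(Γ(U.left, ⊤))) (R : Sieve U) (hR : R ∈ Scheme.ProEt.topology S U) :
    HasClopenRefinement U R := by
  obtain ⟨n, Z, g, haff, hRg, -, hsurj⟩ := exists_finite_affine' R hR
  haveI := haff
  haveI : WeaklyEtale U.hom := U.prop
  haveI hg : ∀ k, WeaklyEtale (und (g k)) := fun k => by
    haveI : WeaklyEtale (und (g k) ≫ U.hom) := by
      rw [show und (g k) ≫ U.hom = (Z k).hom from Over.w ((Scheme.ProEt.forget S).map (g k))]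
      exact (Z k).prop
    exact WeaklyEtale.of_comp _ U.hom
  let Zs : ULift.{u} (Fin n) → Scheme.{u} := fun k => (Z k.down).left
  let π : ∐ Zs ⟶ U.left := Sigma.desc fun k => und (g k.down)
  haveI : WeaklyEtale π := IsZariskiLocalAtSource.sigmaDesc (P := @WeaklyEtale) fun k => hg k.down
  haveI : Surjective π := ⟨fun x => by
    obtain ⟨k, y, hy⟩ := hsurj x
    refine ⟨(Sigma.ι Zs ⟨k⟩).base y, ?_⟩
    show ((Sigma.ι Zs ⟨k⟩) ≫ π).base y = x
    rw [Sigma.ι_desc]; exact hy⟩
  obtain ⟨σ, hσ⟩ := exists_section π h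
  let W : Fin n → U.left.Opens := fun k => σ ⁻¹ᵁ (Sigma.ι Zs ⟨k⟩).opensRange
  have hdis : Pairwise (fun k l => Disjoint (W k : Set ↥U.left) (W l)) := fun k l hkl => by
    refine Set.disjoint_left.2 fun x hk hl => ?_
    exact ((disjoint_opensRange_sigmaι Zs ⟨k⟩ ⟨l⟩ (fun h => hkl (congrArg ULift.down h))).le_bot
      (show σ.base x ∈ (Sigma.ι Zs ⟨k⟩).opensRange ⊓ (Sigma.ι Zs ⟨l⟩).opensRange from ⟨hk, hl⟩) : _)
  have hcov : (⋃ k, (W k : Set ↥U.left)) = Set.univ := Set.eq_univ_of_forall fun x => by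
    obtain ⟨⟨k⟩, y, hy⟩ := (sigmaOpenCover Zs).exists_eq (σ.base x)
    have hk : x ∈ W k := ⟨y, hy⟩
    exact Set.mem_iUnion.2 ⟨k, hk⟩
  refine ⟨n, W, fun k => ⟨?_, (W k).isOpen⟩, hdis, hcov, fun k => ?_⟩
  · have : (W k : Set ↥U.left) = (⋃ (l) (_ : l ≠ k), (W l : Set ↥U.left))ᶜ := by
      refine Set.ext fun x => ⟨fun hx hx' => ?_, fun hx => ?_⟩
      · obtain ⟨l, hl, hxl⟩ := Set.mem_iUnion₂.1 hx'
        exact Set.disjoint_left.1 (hdis hl) hxl hx
      · obtain ⟨l, hl⟩ := Set.mem_iUnion.1 (hcov.ge (Set.mem_univ x))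
        by_cases hlk : l = k
        · exact hlk ▸ hl
        · exact absurd (Set.mem_iUnion₂.2 ⟨l, hlk, hl⟩) hx
    rw [this]
    exact (isOpen_biUnion fun l _ => (W l).isOpen).isClosed_compl
  · have hr : Set.range ((W k).ι ≫ σ).base ⊆ Set.range (Sigma.ι Zs ⟨k⟩).base := by
      rintro _ ⟨x, rfl⟩
      exact x.2
    let a : (W k : Scheme) ⟶ (Z k).left := IsOpenImmersion.lift (Sigma.ι Zs ⟨k⟩) ((W k).ι ≫ σ) hr
    have ha : a ≫ und (g k) = (W k).ι := by
      have h1 : a ≫ Sigma.ι Zs ⟨k⟩ = (W k).ι ≫ σ := IsOpenImmersion.lift_fac _ _ hr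
      have h2 := congrArg (· ≫ π) h1
      simp only [Category.assoc, Sigma.ι_desc, π, hσ, Category.comp_id] at h2
      exact h2
    let b : openObj U (W k) ⟶ Z k := MorphismProperty.Over.homMk a (by
      show a ≫ (Z k).hom = (W k).ι ≫ U.hom
      rw [← show und (g k) ≫ U.hom = (Z k).hom from Over.w ((Scheme.ProEt.forget S).map (g k)), ← Category.assoc, ha])
    have hb : openι U (W k) = b ≫ g k := by
      apply (Scheme.ProEt.forget S).map_injective
      ext1
      exact ha.symm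
    rw [hb]
    exact R.downward_closed (hRg k) b

theorem isWContractible_of_clopenRefinement (U : S.ProEt) [IsAffine U.left]
    (h : ∀ R ∈ Scheme.ProEt.topology S U, HasClopenRefinement U R) :
    EtPBC.IsWContractible ↥(Γ(U.left, ⊤)) := by
  refine retraction_of_sections fun V _ π _ hπ => ?_
  haveI : WeaklyEtale U.hom := U.prop
  let Z : S.ProEt := Scheme.ProEt.mk (π ≫ U.hom)
  haveI : IsAffine Z.left := ‹IsAffine V›
  let g : Z ⟶ U := MorphismProperty.Over.homMk π rfl
  obtain ⟨n, W, -, hdis, hcov, hW⟩ := h _ (single_mem g hπ)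
  have hf : ∀ k, ∃ a : (W k : Scheme) ⟶ V, a ≫ π = (W k).ι := fun k => by
    obtain ⟨-, a, ha⟩ := (Sieve.mem_ofArrows_iff _ _ _).1 (hW k)
    exact ⟨a.left, (congrArg (fun m => m.left) ha).symm⟩
  choose a ha using hf
  let 𝒰 : U.left.OpenCover := U.left.openCoverOfIsOpenCover (fun k : ULift.{u} (Fin n) => W k.down) (by
    refine top_le_iff.1 fun x _ => ?_
    obtain ⟨k, hk⟩ := Set.mem_iUnion.1 (hcov.ge (Set.mem_univ x))
    exact TopologicalSpace.Opens.mem_iSup.2 ⟨⟨k⟩, hk⟩)
  refine ⟨Scheme.Cover.glueMorphisms 𝒰 (fun k => a k.down) fun i j => ?_, ?_⟩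
  · by_cases hij : i = j
    · subst hij
      haveI : Mono (𝒰.f i) := inferInstanceAs (Mono (W i.down).ι)
      rw [(cancel_mono (𝒰.f i)).1 pullback.condition]
    · haveI : IsEmpty ↥(pullback (𝒰.f i) (𝒰.f j)) := ⟨fun z => by
        have h1 := congrArg (fun m => m.base z) (pullback.condition (f := 𝒰.f i) (g := 𝒰.f j))
        have h2 : (pullback.fst (𝒰.f i) (𝒰.f j) ≫ 𝒰.f i).base z ∈ W i.down := ((pullback.fst (𝒰.f i) (𝒰.f j)).base z).2
        rw [pullback.condition] at h2
        exact Set.disjoint_left.1 (hdis (fun h => hij (ULift.ext _ _ h))) h2 ((pullback.snd (𝒰.f i) (𝒰.f j)).base z).2⟩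
      exact (isInitialOfIsEmpty).hom_ext _ _
  · refine Scheme.Cover.hom_ext 𝒰 _ _ fun k => ?_
    rw [Scheme.Cover.ι_glueMorphisms_assoc, Category.comp_id]
    exact ha k.down

theorem isWC_of_clopenRefinement (U : S.ProEt) [IsAffine U.left]
    (h : ∀ R ∈ Scheme.ProEt.topology S U, HasClopenRefinement U R) : ProEtS.IsWC U := by
  intro F G φ hφ s
  haveI : Sheaf.IsLocallySurjective φ := (Sheaf.isLocallySurjective_iff_epi φ).2 hφ
  obtain ⟨n, W, -, hdis, hcov, hW⟩ := h _ (Presheaf.imageSieve_mem (Scheme.ProEt.topology S) φ.hom s)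
  choose t ht using hW
  have hcovm : Sieve.ofArrows (fun k : Fin n => openObj U (W k)) (fun k => openι U (W k)) ∈ Scheme.ProEt.topology S U := by
    let 𝒰 := U.left.openCoverOfIsOpenCover (fun k : ULift.{u} (Fin n) => W k.down) (by
      refine top_le_iff.1 fun x _ => ?_
      obtain ⟨k, hk⟩ := Set.mem_iUnion.1 (hcov.ge (Set.mem_univ x))
      exact TopologicalSpace.Opens.mem_iSup.2 ⟨⟨k⟩, hk⟩)
    refine GrothendieckTopology.superset_covering _ ?_
      (ofArrows_mem_of_mem (fun k : ULift.{u} (Fin n) => openObj U (W k.down)) (fun k => openι U (W k.down))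
        (Scheme.zariskiPrecoverage_le_propQCPrecoverage _ 𝒰.mem₀))
    rw [Sieve.generate_le_iff]
    rintro _ _ ⟨k⟩
    exact Sieve.ofArrows_mk _ _ _
  have hsh : (Presieve.ofArrows (fun k : Fin n => openObj U (W k)) (fun k => openι U (W k))).IsSheafFor F.obj := by
    rw [Presieve.isSheafFor_iff_generate]
    exact ((isSheaf_iff_isSheaf_of_type _ _).1 F.property) _ hcovm
  obtain ⟨x, hx, -⟩ := (Presieve.isSheafFor_arrows_iff _ _).1 hsh t fun i j Y gi gj hgij => by
    by_cases hij : i = j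
    · subst hij
      haveI : Mono (openι U (W i)) := (Scheme.ProEt.forget S ⋙ Over.forget S).mono_of_mono_map (inferInstanceAs (Mono (W i).ι))
      rw [(cancel_mono (openι U (W i))).1 hgij]
    · haveI : IsEmpty ↥Y.left := ⟨fun z => by
        have h2 : (und gi ≫ (W i).ι).base z ∈ W i := ((und gi).base z).2
        rw [show und gi ≫ (W i).ι = und gj ≫ (W j).ι from congrArg (fun m => und m) hgij] at h2
        exact Set.disjoint_left.1 (hdis hij) h2 ((und gj).base z).2⟩
      exact (((isSheaf_iff_isSheaf_of_type _ _).1 F.property) ⊥ (Scheme.ProEt.bot_mem_topology Y)).isSeparatedFor.ext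
        fun _ f hf => hf.elim
  refine ⟨x, ?_⟩
  have hshG : (Presieve.ofArrows (fun k : Fin n => openObj U (W k)) (fun k => openι U (W k))).IsSheafFor G.obj := by
    rw [Presieve.isSheafFor_iff_generate]
    exact ((isSheaf_iff_isSheaf_of_type _ _).1 G.property) _ hcovm
  refine hshG.isSeparatedFor.ext fun Y f hf => ?_
  obtain ⟨k⟩ := hf
  rw [← ht k, ← hx k]
  exact (ConcreteCategory.congr_hom (φ.hom.naturality (openι U (W k)).op) x).symm

theorem sections_of_isWC (U : S.ProEt) [IsAffine U.left] (h : ProEtS.IsWC U) :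
    EtPBC.IsWContractible ↥(Γ(U.left, ⊤)) := by
  refine retraction_of_sections fun V _ π _ hπ => ?_
  haveI : WeaklyEtale U.hom := U.prop
  let Z : S.ProEt := Scheme.ProEt.mk (π ≫ U.hom)
  haveI : IsAffine Z.left := ‹IsAffine V›
  let g : Z ⟶ U := MorphismProperty.Over.homMk π rfl
  let yo := GrothendieckTopology.uliftYoneda.{u + 1} (Scheme.ProEt.topology S)
  have hls : Sheaf.IsLocallySurjective (yo.map g) := by
    refine ⟨fun {Y} s => ?_⟩
    obtain ⟨f⟩ := s
    refine GrothendieckTopology.superset_covering _ ?_ ((Scheme.ProEt.topology S).pullback_stable f (single_mem g hπ))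
    intro T q hq
    obtain ⟨-, a, ha⟩ := (Sieve.mem_ofArrows_iff _ _ _).1 hq
    exact ⟨ULift.up a, congrArg ULift.up ha.symm⟩
  obtain ⟨⟨σ⟩, hσ⟩ := h _ _ (yo.map g) ((Sheaf.isLocallySurjective_iff_epi _).1 hls) (ULift.up (𝟙 U))
  exact ⟨σ.left, congrArg (fun m => m.left) (congrArg ULift.down hσ)⟩

end Groth.Agent.WCSiteLib
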