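import Groth.Agent.S7286
import Groth.Agent.WCSiteLib.Site
import Mathlib.CategoryTheory.Limits.Shapes.Opposites.Products
import Mathlib.CategoryTheory.Limits.Preserves.Shapes.Products

/-! Disjoint unions in the small pro-étale site, weakly contractible coverings. -/

set_option autoImplicit false
set_option linter.style.haveILetI false
set_option backward.isDefEq.respectTransparency false
universe u w

open CategoryTheory CategoryTheory.Limits AlgebraicGeometry Opposite

namespace Groth.Agent.WCSiteLib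

open ProEtPtsLib

variable {S : Scheme.{u}}

theorem isWC_of_wContractible (U : S.ProEt) [IsAffine U.left] (h : EtPBC.IsWContractible ↥(Γ(U.left, ⊤))) :
    ProEtS.IsWC U :=
  isWC_of_clopenRefinement U fun R hR => clopenRefinement_of_wContractible U h R hR

theorem eq_of_isEmpty (F : Sheaf (Scheme.ProEt.topology S) (Type w)) (Y : S.ProEt) [IsEmpty ↥Y.left]
    (a b : F.obj.obj (op Y)) : a = b :=
  (((isSheaf_iff_isSheaf_of_type _ _).1 F.property) ⊥ (Scheme.ProEt.bot_mem_topology Y)).isSeparatedFor.ext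
    fun _ f hf => hf.elim

/-- A family of monomorphisms with pairwise disjoint images. -/
structure IsDisjointFamily {U : S.ProEt} {ι : Type*} (Z : ι → S.ProEt) (g : ∀ i, Z i ⟶ U) : Prop where
  mem : Sieve.ofArrows Z g ∈ Scheme.ProEt.topology S U
  mono : ∀ i, Mono (g i)
  disjoint : ∀ i j, i ≠ j → ∀ (Y : S.ProEt) (a : Y ⟶ Z i) (b : Y ⟶ Z j), a ≫ g i = b ≫ g j → IsEmpty ↥Y.left

theorem IsDisjointFamily.existsUnique_glue {U : S.ProEt} {ι : Type*} {Z : ι → S.ProEt} {g : ∀ i, Z i ⟶ U}
    (hg : IsDisjointFamily Z g) (F : Sheaf (Scheme.ProEt.topology S) (Type w)) (t : ∀ i, F.obj.obj (op (Z i))) :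
    ∃! x : F.obj.obj (op U), ∀ i, F.obj.map (g i).op x = t i := by
  have hsh : (Presieve.ofArrows Z g).IsSheafFor F.obj := by
    rw [Presieve.isSheafFor_iff_generate]
    exact ((isSheaf_iff_isSheaf_of_type _ _).1 F.property) _ hg.mem
  refine (Presieve.isSheafFor_arrows_iff _ _).1 hsh t fun i j Y gi gj hgij => ?_
  by_cases hij : i = j
  · subst hij
    haveI := hg.mono i
    rw [(cancel_mono (g i)).1 hgij]
  · haveI := hg.disjoint i j hij Y gi gj hgij
    exact eq_of_isEmpty F Y _ _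

theorem IsDisjointFamily.isWC {U : S.ProEt} {ι : Type*} {Z : ι → S.ProEt} {g : ∀ i, Z i ⟶ U}
    (hg : IsDisjointFamily Z g) (h : ∀ i, ProEtS.IsWC (Z i)) : ProEtS.IsWC U := by
  intro F G φ hφ s
  choose t ht using fun i => h i F G φ hφ (G.obj.map (g i).op s)
  obtain ⟨x, hx, -⟩ := hg.existsUnique_glue F t
  obtain ⟨y, -, huniq⟩ := hg.existsUnique_glue G fun i => G.obj.map (g i).op s
  refine ⟨x, (huniq _ fun i => ?_).trans (huniq _ fun i => rfl).symm⟩
  rw [← ht i, ← hx i]
  exact (ConcreteCategory.congr_hom (φ.hom.naturality (g i).op) x).symm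

/-- A disjoint union of objects of the site. -/
noncomputable def sigmaObj {ι : Type u} (V : ι → S.ProEt) : S.ProEt :=
  haveI : WeaklyEtale (Sigma.desc fun i => (V i).hom) :=
    IsZariskiLocalAtSource.sigmaDesc (P := @WeaklyEtale) fun i => (V i).prop
  Scheme.ProEt.mk (Sigma.desc fun i => (V i).hom)

/-- The inclusions into a disjoint union. -/
noncomputable def sigmaι {ι : Type u} (V : ι → S.ProEt) (i : ι) : V i ⟶ sigmaObj V :=
  MorphismProperty.Over.homMk (Sigma.ι (fun i => (V i).left) i) (Sigma.ι_desc _ _)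

/-- Maps out of a disjoint union. -/
noncomputable def sigmaDesc {ι : Type u} {U : S.ProEt} (V : ι → S.ProEt) (f : ∀ i, V i ⟶ U) : sigmaObj V ⟶ U :=
  MorphismProperty.Over.homMk (Sigma.desc fun i => und (f i)) (by
    refine Sigma.hom_ext _ _ fun i => ?_
    show _ ≫ _ = _ ≫ Sigma.desc fun i => (V i).hom
    rw [Sigma.ι_desc_assoc, Sigma.ι_desc]
    exact Over.w ((Scheme.ProEt.forget S).map (f i)))

theorem sigmaι_desc {ι : Type u} {U : S.ProEt} (V : ι → S.ProEt) (f : ∀ i, V i ⟶ U) (i : ι) :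
    sigmaι V i ≫ sigmaDesc V f = f i := by
  apply (Scheme.ProEt.forget S).map_injective
  ext1
  exact Sigma.ι_desc _ _

theorem sigma_isDisjointFamily {ι : Type u} (V : ι → S.ProEt) : IsDisjointFamily V (sigmaι V) where
  mem := ofArrows_mem_of_mem _ _
    (Scheme.zariskiPrecoverage_le_propQCPrecoverage _ (sigmaOpenCover fun i => (V i).left).mem₀)
  mono i := (Scheme.ProEt.forget S ⋙ Over.forget S).mono_of_mono_map
    (inferInstanceAs (Mono (Sigma.ι (fun i => (V i).left) i)))
  disjoint i j hij Y a b h := ⟨fun z => by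
    have hz := congrArg (fun m => (und m).base z) h
    exact ((disjoint_opensRange_sigmaι (fun i => (V i).left) i j hij).le_bot
      (show (und (a ≫ sigmaι V i)).base z ∈ (Sigma.ι (fun i => (V i).left) i).opensRange ⊓
          (Sigma.ι (fun i => (V i).left) j).opensRange from
        ⟨⟨(und a).base z, rfl⟩, ⟨(und b).base z, hz.symm⟩⟩) : _)⟩

theorem ofArrows_le_singleton {ι : Type u} {U : S.ProEt} (V : ι → S.ProEt) (f : ∀ i, V i ⟶ U) :
    Sieve.ofArrows V f ≤ Sieve.generate (Presieve.singleton (sigmaDesc V f)) := by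
  rw [Sieve.generate_le_iff]
  rintro _ _ ⟨i⟩
  exact ⟨_, sigmaι V i, sigmaDesc V f, Presieve.singleton.mk, sigmaι_desc V f i⟩

theorem exists_wc_cover (U : S.ProEt) :
    ∃ (V : S.ProEt) (g : V ⟶ U), Sieve.generate (Presieve.singleton g) ∈ Scheme.ProEt.topology S U ∧
      ProEtS.IsWC V := by
  obtain ⟨ι, V, g, hmem, hV⟩ := Groth.Agent.S7286.result U
  refine ⟨sigmaObj V, sigmaDesc V g, GrothendieckTopology.superset_covering _ (ofArrows_le_singleton V g) hmem,
    (sigma_isDisjointFamily V).isWC fun i => ?_⟩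
  haveI := (hV i).1
  exact isWC_of_wContractible _ (hV i).2

theorem exists_affine_wc_cover_of_affine (U : S.ProEt) [IsAffine U.left] :
    ∃ (V : S.ProEt) (g : V ⟶ U), Sieve.generate (Presieve.singleton g) ∈ Scheme.ProEt.topology S U ∧
      IsAffine V.left ∧ ProEtS.IsWC V := by
  haveI : WeaklyEtale U.hom := U.prop
  haveI := isIso_fromSpec_top U.left
  obtain ⟨D, _, _, hff, hind, hwc⟩ := WLocalLib.exists_wContractible ↥(Γ(U.left, ⊤))
  haveI := _root_.IndEtLib.weaklyEtale_of_isIndEtale _ _ hind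
  let φ : Γ(U.left, ⊤) ⟶ CommRingCat.of D := CommRingCat.ofHom (algebraMap ↥(Γ(U.left, ⊤)) D)
  haveI : WeaklyEtale (Spec.map φ) := weaklyEtale_specMap ↥(Γ(U.left, ⊤)) D
  haveI : Surjective (Spec.map φ) :=
    haveI := hff
    ⟨PrimeSpectrum.comap_surjective_of_faithfullyFlat (A := ↥(Γ(U.left, ⊤))) (B := D)⟩
  let V : S.ProEt := Scheme.ProEt.mk ((Spec.map φ ≫ (isAffineOpen_top U.left).fromSpec) ≫ U.hom)
  haveI hV : IsAffine V.left := inferInstanceAs (IsAffine (Spec (CommRingCat.of D)))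
  let g : V ⟶ U := MorphismProperty.Over.homMk (Spec.map φ ≫ (isAffineOpen_top U.left).fromSpec) rfl
  have hs : Surjective (und g) := inferInstanceAs (Surjective (Spec.map φ ≫ (isAffineOpen_top U.left).fromSpec))
  refine ⟨V, g, GrothendieckTopology.superset_covering _ ?_ (single_mem g hs), hV, isWC_of_wContractible V ?_⟩
  · rw [Sieve.generate_le_iff]
    rintro _ _ ⟨-⟩
    exact Sieve.le_generate (Presieve.singleton g) _ _ Presieve.singleton.mk
  · let e : D ≃+* ↥(Γ(V.left, ⊤)) := (Scheme.ΓSpecIso (CommRingCat.of D)).commRingCatIsoToRingEquiv.symm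
    letI : Algebra D ↥(Γ(V.left, ⊤)) := e.toRingHom.toAlgebra
    have hb : Function.Surjective (algebraMap D ↥(Γ(V.left, ⊤))) := e.surjective
    haveI : Module.Finite D ↥(Γ(V.left, ⊤)) := RingHom.Finite.of_surjective _ hb
    haveI : Algebra.FinitePresentation D ↥(Γ(V.left, ⊤)) := RingHom.FinitePresentation.of_bijective e.bijective
    exact Groth.Agent.S0679.result D _ hwc

theorem exists_affine_wc_cover (U : S.ProEt) [CompactSpace ↥U.left] :
    ∃ (V : S.ProEt) (g : V ⟶ U), Sieve.generate (Presieve.singleton g) ∈ Scheme.ProEt.topology S U ∧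
      IsAffine V.left ∧ ProEtS.IsWC V := by
  haveI : WeaklyEtale U.hom := U.prop
  let 𝒰 := U.left.affineCover.finiteSubcover
  let Z : 𝒰.I₀ → S.ProEt := fun i => Scheme.ProEt.mk (𝒰.f i ≫ U.hom)
  let f : ∀ i, Z i ⟶ U := fun i => MorphismProperty.Over.homMk (𝒰.f i) rfl
  have hZ : ∀ i, IsAffine (Z i).left := fun i => inferInstanceAs (IsAffine (𝒰.X i))
  haveI : IsAffine (sigmaObj Z).left := inferInstanceAs (IsAffine (∐ fun i => (Z i).left))
  obtain ⟨V, g, hg, hV, hwc⟩ := exists_affine_wc_cover_of_affine (sigmaObj Z)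
  refine ⟨V, g ≫ sigmaDesc Z f, (Scheme.ProEt.topology S).transitive
    (GrothendieckTopology.superset_covering _ (ofArrows_le_singleton Z f)
      (ofArrows_mem_of_mem Z f (Scheme.zariskiPrecoverage_le_propQCPrecoverage _ 𝒰.mem₀))) _ ?_, hV, hwc⟩
  rintro Y _ ⟨_, a, _, ⟨⟩, rfl⟩
  rw [Sieve.pullback_comp]
  refine (Scheme.ProEt.topology S).pullback_stable a (GrothendieckTopology.superset_covering _ ?_ hg)
  rintro T _ ⟨_, b, _, ⟨⟩, rfl⟩
  exact ⟨_, b, _, Presieve.singleton.mk, (Category.assoc _ _ _).symm⟩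

theorem openι_isDisjointFamily (U : S.ProEt) {n : ℕ} (W : Fin n → U.left.Opens)
    (hdis : Pairwise (fun k l => Disjoint (W k : Set ↥U.left) (W l)))
    (hcov : (⋃ k, (W k : Set ↥U.left)) = Set.univ) :
    IsDisjointFamily (fun k => openObj U (W k)) (fun k => openι U (W k)) where
  mem := by
    let 𝒰 := U.left.openCoverOfIsOpenCover (fun k : ULift.{u} (Fin n) => W k.down) (by
      refine top_le_iff.1 fun x _ => ?_
      obtain ⟨k, hk⟩ := Set.mem_iUnion.1 (hcov.ge (Set.mem_univ x))
      exact TopologicalSpace.Opens.mem_iSup.2 ⟨⟨k⟩, hk⟩)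
    refine GrothendieckTopology.superset_covering _ ?_
      (ofArrows_mem_of_mem (fun k : ULift.{u} (Fin n) => openObj U (W k.down)) (fun k => openι U (W k.down))
        (Scheme.zariskiPrecoverage_le_propQCPrecoverage _ 𝒰.mem₀))
    rw [Sieve.generate_le_iff]
    rintro _ _ ⟨k⟩
    exact Sieve.ofArrows_mk _ _ _
  mono k := (Scheme.ProEt.forget S ⋙ Over.forget S).mono_of_mono_map (inferInstanceAs (Mono (W k).ι))
  disjoint i j hij Y gi gj hgij := ⟨fun z => by
    have h2 : (und gi ≫ (W i).ι).base z ∈ W i := ((und gi).base z).2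
    rw [show und gi ≫ (W i).ι = und gj ≫ (W j).ι from congrArg (fun m => und m) hgij] at h2
    exact Set.disjoint_left.1 (hdis hij) h2 ((und gj).base z).2⟩

theorem exists_isColimit_cofan (U : S.ProEt) {n : ℕ} (W : Fin n → U.left.Opens)
    (hdis : Pairwise (fun k l => Disjoint (W k : Set ↥U.left) (W l)))
    (hcov : (⋃ k, (W k : Set ↥U.left)) = Set.univ) :
    Nonempty (IsColimit (Cofan.mk U (fun k => openι U (W k)))) := by
  haveI : WeaklyEtale U.hom := U.prop
  let 𝒰 : U.left.OpenCover := U.left.openCoverOfIsOpenCover (fun k : ULift.{u} (Fin n) => W k.down) (by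
    refine top_le_iff.1 fun x _ => ?_
    obtain ⟨k, hk⟩ := Set.mem_iUnion.1 (hcov.ge (Set.mem_univ x))
    exact TopologicalSpace.Opens.mem_iSup.2 ⟨⟨k⟩, hk⟩)
  have hglue : ∀ s : Cofan (fun k => openObj U (W k)), ∃ m : U.left ⟶ s.pt.left,
      ∀ k, (W k).ι ≫ m = und (s.inj k) := by
    intro s
    refine ⟨Scheme.Cover.glueMorphisms 𝒰 (fun k => und (s.inj k.down)) fun i j => ?_, fun k =>
      Scheme.Cover.ι_glueMorphisms 𝒰 _ _ ⟨k⟩⟩
    by_cases hij : i = j
    · subst hij
      haveI : Mono (𝒰.f i) := inferInstanceAs (Mono (W i.down).ι)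
      rw [(cancel_mono (𝒰.f i)).1 pullback.condition]
    · haveI : IsEmpty ↥(pullback (𝒰.f i) (𝒰.f j)) := ⟨fun z => by
        have h2 : (pullback.fst (𝒰.f i) (𝒰.f j) ≫ 𝒰.f i).base z ∈ W i.down := ((pullback.fst (𝒰.f i) (𝒰.f j)).base z).2
        rw [pullback.condition] at h2
        exact Set.disjoint_left.1 (hdis (fun h => hij (ULift.ext _ _ h))) h2 ((pullback.snd (𝒰.f i) (𝒰.f j)).base z).2⟩
      exact (isInitialOfIsEmpty).hom_ext _ _
  choose m hm using hglue
  have hw : ∀ s, m s ≫ s.pt.hom = U.hom := fun s => by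
    refine Scheme.Cover.hom_ext 𝒰 _ _ fun k => ?_
    show (W k.down).ι ≫ m s ≫ _ = (W k.down).ι ≫ _
    rw [← Category.assoc, hm s k.down]
    exact Over.w ((Scheme.ProEt.forget S).map (s.inj k.down))
  refine ⟨mkCofanColimit _ (fun s => MorphismProperty.Over.homMk (m s) (hw s)) (fun s k => ?_) (fun s q hq => ?_)⟩
  · apply (Scheme.ProEt.forget S).map_injective
    ext1
    exact hm s k
  · apply (Scheme.ProEt.forget S).map_injective
    ext1
    refine Scheme.Cover.hom_ext 𝒰 _ _ fun k => ?_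
    exact (congrArg (fun z => und z) (hq k.down)).trans (hm s k.down).symm

theorem toSheafify_bijective' (F : S.ProEtᵒᵖ ⥤ Type (u + 1)) (W : S.ProEt) [IsAffine W.left] (hW : ProEtS.IsWC W)
    (key : ∀ (n : ℕ) (V : Fin n → W.left.Opens), Pairwise (fun k l => Disjoint (V k : Set ↥W.left) (V l)) →
      (⋃ k, (V k : Set ↥W.left)) = Set.univ → ∀ t : ∀ k, F.obj (op (openObj W (V k))),
      ∃! x : F.obj (op W), ∀ k, F.map (openι W (V k)).op x = t k) :
    Function.Bijective ((toSheafify (Scheme.ProEt.topology S) F).app (op W)) := by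
  have hc : ∀ R ∈ Scheme.ProEt.topology S W, HasClopenRefinement W R := fun R hR =>
    clopenRefinement_of_wContractible W (sections_of_isWC W hW) R hR
  constructor
  · intro a b hab
    obtain ⟨n, V, -, hdis, hcov, hV⟩ := hc _
      (Presheaf.equalizerSieve_mem (Scheme.ProEt.topology S) (toSheafify (Scheme.ProEt.topology S) F) a b hab)
    obtain ⟨x, -, huniq⟩ := key n V hdis hcov fun k => F.map (openι W (V k)).op b
    exact (huniq a fun k => hV k).trans (huniq b fun k => rfl).symm
  · intro s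
    obtain ⟨n, V, -, hdis, hcov, hV⟩ := hc _
      (Presheaf.imageSieve_mem (Scheme.ProEt.topology S) (toSheafify (Scheme.ProEt.topology S) F) s)
    choose t ht using hV
    obtain ⟨x, hx, -⟩ := key n V hdis hcov t
    obtain ⟨y, -, huniq⟩ := (openι_isDisjointFamily W V hdis hcov).existsUnique_glue
      ((presheafToSheaf (Scheme.ProEt.topology S) (Type (u + 1))).obj F)
      fun k => (sheafify (Scheme.ProEt.topology S) F).map (openι W (V k)).op s
    refine ⟨x, (huniq _ fun k => ?_).trans (huniq _ fun k => rfl).symm⟩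
    rw [← ht k, ← hx k]
    exact (ConcreteCategory.congr_hom ((toSheafify (Scheme.ProEt.topology S) F).naturality (openι W (V k)).op) x).symm

theorem toSheafify_bijective (F : S.ProEtᵒᵖ ⥤ Type (u + 1)) [PreservesFiniteProducts F] (W : S.ProEt)
    [IsAffine W.left] (hW : ProEtS.IsWC W) :
    Function.Bijective ((toSheafify (Scheme.ProEt.topology S) F).app (op W)) := by
  have key : ∀ (n : ℕ) (V : Fin n → W.left.Opens), Pairwise (fun k l => Disjoint (V k : Set ↥W.left) (V l)) →
      (⋃ k, (V k : Set ↥W.left)) = Set.univ → ∀ t : ∀ k, F.obj (op (openObj W (V k))),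
      ∃! x : F.obj (op W), ∀ k, F.map (openι W (V k)).op x = t k := by
    intro n V hdis hcov t
    obtain ⟨hcol⟩ := exists_isColimit_cofan W V hdis hcov
    have hl := isLimitFanMkObjOfIsLimit F (fun k => op (openObj W (V k))) (fun k => (openι W (V k)).op)
      (Cofan.IsColimit.op hcol)
    obtain ⟨x, hx, huniq⟩ := (Types.isLimit_iff _).1 ⟨hl⟩ (fun j => t j.as) (by
      rintro ⟨a⟩ ⟨b⟩ f
      obtain rfl : a = b := f.1.1
      simp)
    exact ⟨x, fun k => hx ⟨k⟩, fun y hy => huniq y fun j => hy j.as⟩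
  exact toSheafify_bijective' F W hW key

end Groth.Agent.WCSiteLib
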