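import Groth.Agent.WCSiteLib.Coprod
import Groth.Agent.WLocalLib.Homeo
import Mathlib.CategoryTheory.Sites.EpiMono
import Mathlib.Algebra.Homology.ShortComplex.ExactFunctor
import Mathlib.AlgebraicGeometry.Morphisms.ClosedImmersion
import Mathlib.AlgebraicGeometry.Morphisms.Finite
import Mathlib.AlgebraicGeometry.PullbackCarrier

/-! Exactness of pushforward on small pro-étale sites. -/

set_option autoImplicit false
set_option linter.style.haveILetI false
set_option backward.isDefEq.respectTransparency false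
universe u

open CategoryTheory CategoryTheory.Limits AlgebraicGeometry Opposite

namespace Groth.Agent.WCSiteLib

open ProEtPtsLib

variable {Z X : Scheme.{u}}

theorem exists_wc_family (U : X.ProEt) :
    ∃ (ι : Type u) (V : ι → X.ProEt) (g : ∀ i, V i ⟶ U), Sieve.ofArrows V g ∈ Scheme.ProEt.topology X U ∧
      ∀ i, IsAffine (V i).left ∧ EtPBC.IsWContractible ↥(Γ((V i).left, ⊤)) :=
  Groth.Agent.S7286.result U

set_option synthInstance.maxHeartbeats 400000 in
theorem pushP_exact (f : Z ⟶ X) [IsAffineHom f] [ProEtS.PCont f]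
    (h : ∀ (V : Scheme.{u}) [IsAffine V] (a : V ⟶ X), EtPBC.IsWContractible ↥(Γ(V, ⊤)) →
      EtPBC.IsWContractible ↥(Γ(pullback a f, ⊤))) :
    PreservesFiniteLimits (ProEtS.pushP f) ∧ PreservesFiniteColimits (ProEtS.pushP f) := by
  haveI hlim : PreservesFiniteLimits (ProEtS.pushP f) := by
    haveI := (ProEtS.pullPushAdjP f).rightAdjoint_preservesLimits
    infer_instance
  have htfae := (Functor.preservesFiniteLimits_tfae (ProEtS.pushP f)).out 3 0 (a := PreservesFiniteLimits (ProEtS.pushP f))
    (b := ∀ S : ShortComplex (ProEtS.AbP Z), S.ShortExact → (S.map (ProEtS.pushP f)).Exact ∧ Mono ((ProEtS.pushP f).map S.f))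
  refine ⟨hlim, (Functor.preservesFiniteColimits_iff_forall_exact_map_and_epi _).2 fun S hS =>
    ⟨(htfae.1 hlim S hS).1, ?_⟩⟩
  haveI := hS.epi_g
  haveI : Balanced (ProEtS.AbP Z) := inferInstance
  haveI : Balanced (ProEtS.AbP X) := inferInstance
  have hls : Sheaf.IsLocallySurjective S.g := (Sheaf.isLocallySurjective_iff_epi' (J := Scheme.ProEt.topology Z) (A := AddCommGrpCat.{u + 1}) S.g).2 inferInstance
  haveI : Presheaf.IsLocallySurjective (Scheme.ProEt.topology Z) S.g.hom := hls
  haveI hls' : Sheaf.IsLocallySurjective ((sheafCompose _ (forget AddCommGrpCat.{u + 1})).map S.g) :=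
    (Presheaf.isLocallySurjective_iff_whisker_forget _ S.g.hom).1 hls
  have hepi := (Sheaf.isLocallySurjective_iff_epi _).1 hls'
  suffices Sheaf.IsLocallySurjective ((ProEtS.pushP f).map S.g) from
    (Sheaf.isLocallySurjective_iff_epi' (J := Scheme.ProEt.topology X) (A := AddCommGrpCat.{u + 1}) _).1 this
  refine ⟨fun {U} s => ?_⟩
  obtain ⟨ι, V, g, hmem, hV⟩ := exists_wc_family U
  refine GrothendieckTopology.superset_covering _ ?_ hmem
  rw [Sieve.generate_le_iff]
  rintro _ _ ⟨i⟩
  haveI := (hV i).1
  haveI hW : IsAffine (X := pullback (V i).hom f) := by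
    haveI : IsAffineHom (pullback.fst (V i).hom f) := MorphismProperty.pullback_fst (P := @IsAffineHom) _ f ‹_›
    exact @isAffine_of_isAffineHom _ _ (pullback.fst (V i).hom f) ‹_› (hV i).1
  haveI : IsAffine ((ProEtS.bcP f).obj (V i)).left := hW
  have hwc := isWC_of_wContractible ((ProEtS.bcP f).obj (V i))
    (@h (V i).left (hV i).1 (V i).hom (hV i).2)
  exact hwc _ _ _ hepi (((ProEtS.pushP f).obj S.X₃).obj.map (g i).op s)

theorem wc_pullback_finite (f : Z ⟶ X) [IsFinite f] [LocallyOfFinitePresentation f] (V : Scheme.{u}) [IsAffine V]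
    (a : V ⟶ X) (hV : EtPBC.IsWContractible ↥(Γ(V, ⊤))) : EtPBC.IsWContractible ↥(Γ(pullback a f, ⊤)) := by
  haveI : IsFinite (pullback.fst a f) := MorphismProperty.pullback_fst (P := @IsFinite) a f ‹_›
  haveI : LocallyOfFinitePresentation (pullback.fst a f) :=
    MorphismProperty.pullback_fst (P := @LocallyOfFinitePresentation) a f ‹_›
  haveI : IsAffine (pullback a f) := isAffine_of_isAffineHom (pullback.fst a f)
  letI := (pullback.fst a f).appTop.hom.toAlgebra
  haveI : Module.Finite ↥(Γ(V, ⊤)) ↥(Γ(pullback a f, ⊤)) :=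
    RingHom.finite_algebraMap.1 ((pullback.fst a f).finite_app ⊤ (isAffineOpen_top V))
  haveI : Algebra.FinitePresentation ↥(Γ(V, ⊤)) ↥(Γ(pullback a f, ⊤)) :=
    RingHom.finitePresentation_algebraMap.1
      (HasRingHomProperty.appTop (P := @LocallyOfFinitePresentation) (pullback.fst a f) inferInstance)
  exact Groth.Agent.S0679.result _ _ hV

theorem wc_pullback_closed (f : Z ⟶ X) [IsClosedImmersion f] (hr : IsRetrocompact (Set.range f.base)ᶜ)
    (V : Scheme.{u}) [IsAffine V]
    (a : V ⟶ X) (hV : EtPBC.IsWContractible ↥(Γ(V, ⊤))) : EtPBC.IsWContractible ↥(Γ(pullback a f, ⊤)) := by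
  haveI : IsClosedImmersion (pullback.fst a f) := MorphismProperty.pullback_fst (P := @IsClosedImmersion) a f ‹_›
  haveI : IsAffine (pullback a f) := isAffine_of_isAffineHom (pullback.fst a f)
  obtain ⟨-, hsurj⟩ := IsClosedImmersion.isAffine_surjective_of_isAffine (pullback.fst a f)
  letI := (pullback.fst a f).appTop.hom.toAlgebra
  refine WLocalLib.isWContractible_of_surjective_compact hsurj ?_ hV
  let U₀ : X.Opens := ⟨(Set.range f.base)ᶜ, (IsClosedImmersion.base_closed (f := f)).isClosed_range.isOpen_compl⟩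
  haveI : QuasiCompact U₀.ι := ⟨fun T hT hTc => by
    rw [U₀.ι.isOpenEmbedding.isInducing.isCompact_iff, Set.image_preimage_eq_range_inter, Scheme.Opens.range_ι]
    exact hr hTc hT⟩
  haveI : QuasiCompact (pullback.fst a U₀.ι) := MorphismProperty.pullback_fst (P := @QuasiCompact) a U₀.ι ‹_›
  haveI : CompactSpace ↥(pullback a U₀.ι) := QuasiCompact.compactSpace_of_compactSpace (pullback.fst a U₀.ι)
  have hcompact : IsCompact (Set.range (pullback.fst a f).base)ᶜ := by
    have h1 : IsCompact (Set.range (pullback.fst a U₀.ι).base) := isCompact_range (pullback.fst a U₀.ι).continuous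
    rw [Scheme.Pullback.range_fst, Scheme.Opens.range_ι] at h1
    rw [Scheme.Pullback.range_fst]
    exact h1
  let e := V.isoSpec
  have hnat := Scheme.isoSpec_hom_naturality (pullback.fst a f)
  have hrange : Set.range (PrimeSpectrum.comap (algebraMap ↥(Γ(V, ⊤)) ↥(Γ(pullback a f, ⊤)))) =
      e.hom.base '' Set.range (pullback.fst a f).base := by
    rw [← Set.range_comp]
    show Set.range (Spec.map (pullback.fst a f).appTop).base = Set.range ((pullback.fst a f) ≫ e.hom).base
    rw [show pullback.fst a f ≫ e.hom = (pullback a f).isoSpec.hom ≫ Spec.map (pullback.fst a f).appTop from hnat.symm]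
    exact (Function.Surjective.range_comp (Surjective.surj (f := (pullback a f).isoSpec.hom))
      (Spec.map (pullback.fst a f).appTop).base).symm
  rw [hrange, ← Set.image_compl_eq (show Function.Bijective e.hom.base from ⟨e.hom.isOpenEmbedding.injective, Surjective.surj (f := e.hom)⟩)]
  exact hcompact.image e.hom.continuous

end Groth.Agent.WCSiteLib
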