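import Groth.Agent.WCSiteLib.Site
import Mathlib.AlgebraicGeometry.Morphisms.UniversallyOpen
import Mathlib.CategoryTheory.Sites.Whiskering

/-! Sections of `j_!` near a closed subscheme avoiding `j`. -/

set_option autoImplicit false
set_option linter.style.haveILetI false
set_option backward.isDefEq.respectTransparency false
universe u

open CategoryTheory CategoryTheory.Limits AlgebraicGeometry Opposite

namespace Groth.Agent.WCSiteLib

open ProEtPtsLib

variable {X : Scheme.{u}}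

theorem family_mem {W : X.ProEt} [IsAffine W.left] {ι : Type} [Finite ι] (Z : ι → X.ProEt) (g : ∀ k, Z k ⟶ W)
    (haff : ∀ k, IsAffine (Z k).left) (hs : ∀ x : W.left, ∃ k y, (und (g k)).base y = x) :
    Sieve.ofArrows Z g ∈ Scheme.ProEt.topology X W := by
  have hwe : ∀ k, WeaklyEtale (und (g k)) := fun k => by
    haveI : WeaklyEtale W.hom := W.prop
    haveI : WeaklyEtale (und (g k) ≫ W.hom) := by
      rw [show und (g k) ≫ W.hom = (Z k).hom from Over.w ((Scheme.ProEt.forget X).map (g k))]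
      exact (Z k).prop
    exact WeaklyEtale.of_comp _ W.hom
  let 𝒱 : Scheme.Cover.{u} (Scheme.precoverage @WeaklyEtale) W.left :=
    { I₀ := ULift.{u} ι
      X := fun k => (Z k.down).left
      f := fun k => und (g k.down)
      mem₀ := by
        rw [Scheme.presieve₀_mem_precoverage_iff]
        refine ⟨fun x => ?_, fun k => hwe k.down⟩
        obtain ⟨k, y, hy⟩ := hs x
        exact ⟨⟨k⟩, ⟨y, hy⟩⟩ }
  haveI : ∀ k : 𝒱.I₀, QuasiCompact (𝒱.f k) := fun k => by
    haveI : IsAffine (Z k.down).left := haff k.down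
    exact inferInstanceAs (QuasiCompact (und (g k.down)))
  refine GrothendieckTopology.superset_covering _ ?_
    (ofArrows_mem_of_mem (fun k : ULift.{u} ι => Z k.down) (fun k => g k.down)
      ⟨Scheme.presieve₀_mem_qcPrecoverage_iff.2
        (@QuasiCompactCover.of_finite _ _ 𝒱 _ ‹_› (inferInstanceAs (Finite (ULift.{u} ι)))), 𝒱.mem₀⟩)
  rw [Sieve.generate_le_iff]
  rintro _ _ ⟨k⟩
  exact Sieve.ofArrows_mk _ _ _

variable {Z : Scheme.{u}} (i : Z ⟶ X) (A : ProEtS.AbP X)

/-- A section vanishing, locally, near the points over `Z`. -/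
def VanishesNear {W : X.ProEt} (s : ProEtS.sectP A W) : Prop :=
  ∀ (T : X.ProEt) [IsAffine T.left] (a : T ⟶ W),
    ∃ (ι : Type) (_ : Finite ι) (T' : ι → X.ProEt) (b : ∀ k, T' k ⟶ T),
      (∀ k, IsAffine (T' k).left) ∧ (∀ k, A.obj.map (b k ≫ a).op s = 0) ∧
      ∀ t : ↥T.left, T.hom.base t ∈ Set.range i.base → ∃ k y, (und (b k)).base y = t

variable {i A}

theorem map_map {W W' W'' : X.ProEt} (a : W' ⟶ W) (b : W'' ⟶ W') (s : ProEtS.sectP A W) :
    A.obj.map b.op (A.obj.map a.op s) = A.obj.map (b ≫ a).op s := by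
  rw [op_comp, A.obj.map_comp]; rfl

theorem vanishesNear_zero (W : X.ProEt) : VanishesNear i A (0 : ProEtS.sectP A W) := fun T _ a =>
  ⟨Unit, inferInstance, fun _ => T, fun _ => 𝟙 T, fun _ => ‹_›, fun _ => map_zero _, fun t _ => ⟨(), t, rfl⟩⟩

theorem VanishesNear.neg {W : X.ProEt} {s : ProEtS.sectP A W} (h : VanishesNear i A s) : VanishesNear i A (-s) :=
  fun T _ a => by
    obtain ⟨ι, hι, T', b, h1, h2, h3⟩ := h T a
    exact ⟨ι, hι, T', b, h1, fun k => by rw [map_neg, h2, neg_zero], h3⟩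

theorem zpts_lift {T T' : X.ProEt} (b : T' ⟶ T) {y : ↥T'.left}
    (h : T.hom.base ((und b).base y) ∈ Set.range i.base) : T'.hom.base y ∈ Set.range i.base := by
  rw [← show und b ≫ T.hom = T'.hom from Over.w ((Scheme.ProEt.forget X).map b)]
  exact h

theorem VanishesNear.add {W : X.ProEt} {s s' : ProEtS.sectP A W} (h : VanishesNear i A s)
    (h' : VanishesNear i A s') : VanishesNear i A (s + s') := fun T _ a => by
  obtain ⟨ι, hι, T', b, h1, h2, h3⟩ := h T a
  have H : ∀ k, ∃ (ι' : Type) (_ : Finite ι') (T'' : ι' → X.ProEt) (c : ∀ l, T'' l ⟶ T' k),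
      (∀ l, IsAffine (T'' l).left) ∧ (∀ l, A.obj.map (c l ≫ b k ≫ a).op s' = 0) ∧
      ∀ t : ↥(T' k).left, (T' k).hom.base t ∈ Set.range i.base → ∃ l y, (und (c l)).base y = t :=
    fun k => haveI := h1 k; h' (T' k) (b k ≫ a)
  choose ι' hι' T'' c g1 g2 g3 using H
  refine ⟨Σ k, ι' k, inferInstance, fun p => T'' p.1 p.2, fun p => c p.1 p.2 ≫ b p.1, fun p => g1 _ _,
    fun p => ?_, fun t ht => ?_⟩
  · rw [Category.assoc, map_add, g2 p.1 p.2, ← map_map (b p.1 ≫ a) (c p.1 p.2) s, h2, map_zero, add_zero]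
  · obtain ⟨k, y, rfl⟩ := h3 t ht
    obtain ⟨l, y', rfl⟩ := g3 k y (zpts_lift (b k) ht)
    exact ⟨⟨k, l⟩, y', rfl⟩

theorem VanishesNear.map {W W' : X.ProEt} (f : W' ⟶ W) {s : ProEtS.sectP A W} (h : VanishesNear i A s) :
    VanishesNear i A (A.obj.map f.op s) := fun T _ a => by
  obtain ⟨ι, hι, T', b, h1, h2, h3⟩ := h T (a ≫ f)
  refine ⟨ι, hι, T', b, h1, fun k => ?_, h3⟩
  rw [map_map, Category.assoc, h2]

theorem VanishesNear.of_cover {W : X.ProEt} (R : Sieve W) (hR : R ∈ Scheme.ProEt.topology X W)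
    {s : ProEtS.sectP A W} (h : ∀ ⦃W' : X.ProEt⦄ (f : W' ⟶ W), R f → VanishesNear i A (A.obj.map f.op s)) :
    VanishesNear i A s := fun T _ a => by
  obtain ⟨n, Tk, g, g1, g2, -, g4⟩ := exists_finite_affine' (R.pullback a) ((Scheme.ProEt.topology X).pullback_stable a hR)
  have H : ∀ k, ∃ (ι' : Type) (_ : Finite ι') (T'' : ι' → X.ProEt) (c : ∀ l, T'' l ⟶ Tk k),
      (∀ l, IsAffine (T'' l).left) ∧ (∀ l, A.obj.map ((c l ≫ 𝟙 (Tk k)) ≫ g k ≫ a).op s = 0) ∧
      ∀ t : ↥(Tk k).left, (Tk k).hom.base t ∈ Set.range i.base → ∃ l y, (und (c l)).base y = t :=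
    fun k => by
      haveI := g1 k
      obtain ⟨ι', hι', T'', c, c1, c2, c3⟩ := h (g k ≫ a) (g2 k) (Tk k) (𝟙 _)
      exact ⟨ι', hι', T'', c, c1, fun l => by rw [← map_map, c2], c3⟩
  choose ι' hι' T'' c c1 c2 c3 using H
  refine ⟨Σ k, ι' k, inferInstance, fun p => T'' p.1 p.2, fun p => c p.1 p.2 ≫ g p.1, fun p => c1 _ _,
    fun p => ?_, fun t ht => ?_⟩
  · have := c2 p.1 p.2
    rwa [Category.comp_id, ← Category.assoc] at this
  · obtain ⟨k, y, rfl⟩ := g4 t
    obtain ⟨l, y', rfl⟩ := c3 k y (zpts_lift (g k) ht)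
    exact ⟨⟨k, l⟩, y', rfl⟩

variable (i A)

/-- Sections vanishing near `Z`. -/
def nearSubgroup (W : X.ProEt) : AddSubgroup (ProEtS.sectP A W) where
  carrier := {s | VanishesNear i A s}
  add_mem' := VanishesNear.add
  zero_mem' := vanishesNear_zero W
  neg_mem' := VanishesNear.neg

/-- The presheaf of sections vanishing near `Z`. -/
noncomputable def nearPresheaf : X.ProEtᵒᵖ ⥤ AddCommGrpCat.{u + 1} where
  obj W := AddCommGrpCat.of (nearSubgroup i A W.unop)
  map {W W'} f := AddCommGrpCat.ofHom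
    (((A.obj.map f).hom.comp (nearSubgroup i A W.unop).subtype).codRestrict (nearSubgroup i A W'.unop)
      fun s => s.2.map f.unop)
  map_id W := by
    ext s
    exact ConcreteCategory.congr_hom (A.obj.map_id W) s.1
  map_comp f g := by
    ext s
    exact ConcreteCategory.congr_hom (A.obj.map_comp f g) s.1

theorem nearPresheaf_isSheaf : Presheaf.IsSheaf (Scheme.ProEt.topology X) (nearPresheaf i A) := by
  rw [Presheaf.isSheaf_iff_isSheaf_forget _ _ (forget AddCommGrpCat.{u + 1}), isSheaf_iff_isSheaf_of_type]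
  intro W R hR x hx
  have hA : Presieve.IsSheafFor (A.obj ⋙ forget AddCommGrpCat.{u + 1}) R.arrows :=
    ((isSheaf_iff_isSheaf_of_type _ _).1
      ((Presheaf.isSheaf_iff_isSheaf_forget _ _ (forget AddCommGrpCat.{u + 1})).1 A.property)) _ hR
  have hx' : Presieve.FamilyOfElements.Compatible (P := A.obj ⋙ forget AddCommGrpCat.{u + 1}) (R := R.arrows)
      (fun Y f hf => (x f hf).1) := fun Y1 Y2 Y g1 g2 f1 f2 h1 h2 e =>
    congrArg (fun z => z.1) (hx g1 g2 h1 h2 e)
  obtain ⟨s, hs, huniq⟩ := hA _ hx'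
  have hmem : VanishesNear i A s := VanishesNear.of_cover R hR fun W' f hf => by
    have e : A.obj.map f.op s = (x f hf).1 := hs f hf
    rw [e]
    exact (x f hf).2
  exact ⟨⟨s, hmem⟩, fun Y f hf => Subtype.ext (hs f hf), fun t ht => Subtype.ext (huniq t.1 fun Y f hf =>
    congrArg (fun z => z.1) (ht f hf))⟩

/-- The subsheaf of sections vanishing near `Z`. -/
noncomputable def nearSheaf : ProEtS.AbP X := ⟨nearPresheaf i A, nearPresheaf_isSheaf i A⟩

/-- Its inclusion. -/
noncomputable def nearIncl : nearSheaf i A ⟶ A :=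
  ⟨{ app := fun W => AddCommGrpCat.ofHom (nearSubgroup i A W.unop).subtype }⟩

variable {U : Scheme.{u}} (j : U ⟶ X) [WeaklyEtale j] [ProEtS.JPCont j]

theorem vanishesNear_of_range (hUZ : Disjoint (Set.range j.base) (Set.range i.base)) (W' : U.ProEt)
    (s : ProEtS.sectP A ((ProEtS.compP j).obj W')) : VanishesNear i A s := fun T _ a =>
  ⟨Empty, inferInstance, fun e => e.elim, fun e => e.elim, fun e => e.elim, fun e => e.elim, fun t ht => by
    rw [← show und a ≫ ((ProEtS.compP j).obj W').hom = T.hom from Over.w ((Scheme.ProEt.forget X).map a)] at ht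
    exact absurd ht (Set.disjoint_left.1 hUZ ⟨W'.hom.base ((und a).base t), rfl⟩)⟩

theorem extZero_vanishesNear (hUZ : Disjoint (Set.range j.base) (Set.range i.base)) (F : ProEtS.AbP U)
    {W : X.ProEt} (s : ProEtS.sectP ((ProEtS.extZeroP j).obj F) W) :
    VanishesNear i ((ProEtS.extZeroP j).obj F) s := by
  let B := (ProEtS.extZeroP j).obj F
  let η := (ProEtS.extZeroPAdj j).unit.app F
  let η₀ : F ⟶ (ProEtS.restrP j).obj (nearSheaf i B) :=
    ⟨{ app := fun W' => AddCommGrpCat.ofHom ((η.hom.app W').hom.codRestrict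
          (nearSubgroup i B ((ProEtS.compP j).obj W'.unop)) fun x => vanishesNear_of_range i B j hUZ W'.unop _)
       naturality := fun W₁ W₂ f => by
        ext x
        exact Subtype.ext (ConcreteCategory.congr_hom (η.hom.naturality f) x) }⟩
  let q : B ⟶ nearSheaf i B := ((ProEtS.extZeroPAdj j).homEquiv _ _).symm η₀
  have hq : q ≫ nearIncl i B = 𝟙 B := by
    apply ((ProEtS.extZeroPAdj j).homEquiv _ _).injective
    rw [Adjunction.homEquiv_naturality_right, Equiv.apply_symm_apply, Adjunction.homEquiv_id]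
    rfl
  have e : (nearIncl i B).hom.app (op W) (q.hom.app (op W) s) = s :=
    congrArg (fun m : B ⟶ B => m.hom.app (op W) s) hq
  rw [← e]
  exact (q.hom.app (op W) s).2

theorem extZero_sections_eq_zero (hUZ : Disjoint (Set.range j.base) (Set.range i.base)) (V : X.ProEt)
    [IsAffine V.left] (hV : ∀ v : ↥V.left, ∃ z : ↥V.left, V.hom.base z ∈ Set.range i.base ∧ v ⤳ z)
    (F : ProEtS.AbP U) (s : ProEtS.sectP ((ProEtS.extZeroP j).obj F) V) : s = 0 := by
  obtain ⟨ι, hι, T', b, h1, h2, h3⟩ := extZero_vanishesNear i j hUZ F s V (𝟙 V)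
  have hflat : ∀ k, Flat (und (b k)) := fun k => by
    haveI : WeaklyEtale V.hom := V.prop
    haveI : WeaklyEtale (und (b k) ≫ V.hom) := by
      rw [show und (b k) ≫ V.hom = (T' k).hom from Over.w ((Scheme.ProEt.forget X).map (b k))]
      exact (T' k).prop
    haveI : WeaklyEtale (und (b k)) := WeaklyEtale.of_comp _ V.hom
    infer_instance
  have hs : ∀ v : ↥V.left, ∃ k y, (und (b k)).base y = v := fun v => by
    obtain ⟨z, hz, hvz⟩ := hV v
    obtain ⟨k, y, rfl⟩ := h3 z hz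
    haveI := hflat k
    obtain ⟨y', -, hy'⟩ := Flat.generalizingMap (und (b k)) hvz
    exact ⟨k, y', hy'⟩
  have hsh : Presieve.IsSeparatedFor (((ProEtS.extZeroP j).obj F).obj ⋙ forget AddCommGrpCat.{u + 1})
      (Sieve.ofArrows T' b).arrows :=
    (((isSheaf_iff_isSheaf_of_type _ _).1
      ((Presheaf.isSheaf_iff_isSheaf_forget _ _ (forget AddCommGrpCat.{u + 1})).1
        ((ProEtS.extZeroP j).obj F).property)) _ (family_mem T' b h1 hs)).isSeparatedFor
  refine hsh.ext fun Y f hf => ?_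
  obtain ⟨k, a, rfl⟩ := (Sieve.mem_ofArrows_iff _ _ _).1 hf
  show ((ProEtS.extZeroP j).obj F).obj.map (a ≫ b k).op s = ((ProEtS.extZeroP j).obj F).obj.map (a ≫ b k).op 0
  have := h2 k
  rw [Category.comp_id] at this
  rw [map_zero, ← map_map, this, map_zero]

end Groth.Agent.WCSiteLib
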