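import Groth.Prelude.Def_ProEtS
import Mathlib.CategoryTheory.Sites.Continuous
import Mathlib.CategoryTheory.Adjunction.Triple
import Mathlib.CategoryTheory.Adjunction.FullyFaithful

/-! Full faithfulness of `j_!` and `j_*` for open immersions. -/

set_option autoImplicit false
set_option linter.style.haveILetI false
set_option backward.isDefEq.respectTransparency false
universe u

open CategoryTheory CategoryTheory.Limits AlgebraicGeometry Opposite

namespace Groth.Agent.WCSiteLib

variable {U X : Scheme.{u}} (j : U ⟶ X) [IsOpenImmersion j] [ProEtS.JPCont j] [ProEtS.PCont j]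

/-- `compP j ⊣ bcP j`. -/
noncomputable def compBcAdj : ProEtS.compP j ⊣ ProEtS.bcP j :=
  MorphismProperty.Over.mapPullbackAdj (@WeaklyEtale) ⊤ j inferInstance trivial

omit [ProEtS.JPCont j] [ProEtS.PCont j] in
theorem isIso_compBcAdj_unit : IsIso (compBcAdj j).unit := by
  haveI : ∀ A, IsIso ((compBcAdj j).unit.app A) := fun A => by
    haveI : IsIso ((Scheme.ProEt.forget U ⋙ Over.forget U).map ((compBcAdj j).unit.app A)) := by
      show IsIso (pullback.lift (f := A.hom ≫ j) (g := j) (𝟙 A.left) A.hom (by simp))
      refine ⟨pullback.fst _ _, pullback.lift_fst _ _ _, ?_⟩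
      apply pullback.hom_ext
      · rw [Category.assoc, pullback.lift_fst, Category.comp_id, Category.id_comp]
      · rw [← cancel_mono j]
        simp [pullback.condition]
    haveI : IsIso ((Scheme.ProEt.forget U).map ((compBcAdj j).unit.app A)) :=
      @isIso_of_reflects_iso _ _ _ _ _ _ ((Scheme.ProEt.forget U).map ((compBcAdj j).unit.app A)) (Over.forget U) ‹_› _
    exact isIso_of_reflects_iso _ (Scheme.ProEt.forget U)
  exact NatIso.isIso_of_isIso_app _

/-- `j⁻¹ ⊣ j_*` by precomposition. -/
noncomputable def restrPushAdj : ProEtS.restrP j ⊣ ProEtS.pushP j :=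
  (compBcAdj j).sheafPushforwardContinuous (Scheme.ProEt.topology U) (Scheme.ProEt.topology X)

theorem isIso_restrPushAdj_counit : IsIso (restrPushAdj j).counit := by
  haveI := isIso_compBcAdj_unit j
  haveI : ∀ P, IsIso ((restrPushAdj j).counit.app P) := fun P => by
    haveI : IsIso ((sheafToPresheaf _ _).map ((restrPushAdj j).counit.app P)) := by
      haveI : ∀ V, IsIso (((sheafToPresheaf (Scheme.ProEt.topology U) AddCommGrpCat.{u + 1}).map
          ((restrPushAdj j).counit.app P)).app V) := fun V => by
        show IsIso ((((compBcAdj j).op.whiskerLeft AddCommGrpCat.{u + 1}).counit.app P.obj).app V)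
        simp only [Adjunction.whiskerLeft, Adjunction.op]
        dsimp
        infer_instance
      exact NatIso.isIso_of_isIso_app _
    exact isIso_of_reflects_iso _ (sheafToPresheaf _ _)
  exact NatIso.isIso_of_isIso_app _

theorem openImmersion_unit_counit (F G : ProEtS.AbP U) :
    IsIso ((ProEtS.extZeroPAdj j).unit.app F) ∧ IsIso ((ProEtS.pullPushAdjP j).counit.app G) := by
  haveI := isIso_restrPushAdj_counit j
  let hff := (restrPushAdj j).fullyFaithfulROfIsIsoCounit
  haveI := hff.full
  haveI := hff.faithful
  let t : Adjunction.Triple (ProEtS.extZeroP j) (ProEtS.restrP j) (ProEtS.pushP j) :=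
    ⟨ProEtS.extZeroPAdj j, restrPushAdj j⟩
  haveI : IsIso (ProEtS.extZeroPAdj j).unit := t.isIso_unit_iff_isIso_counit.2 (isIso_restrPushAdj_counit j)
  exact ⟨inferInstance, inferInstance⟩

end Groth.Agent.WCSiteLib
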