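import Groth.Agent.WCSiteLib.Unit
import Groth.Agent.WCSiteLib.ExtZero
import Groth.Agent.WCSiteLib.OpenImm
import Mathlib.CategoryTheory.Sites.EpiMono
import Mathlib.Algebra.Homology.ShortComplex.Exact

/-! The recollement sequence on the small pro-étale site. -/

set_option autoImplicit false
set_option linter.style.haveILetI false
set_option backward.isDefEq.respectTransparency false
set_option synthInstance.maxHeartbeats 400000
universe u

open CategoryTheory CategoryTheory.Limits AlgebraicGeometry Opposite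

namespace Groth.Agent.WCSiteLib

open ProEtPtsLib

variable {X Z U : Scheme.{u}} (i : Z ⟶ X) (j : U ⟶ X) [IsOpenImmersion j] [QuasiCompact j]

theorem covering_of_nearCover (hc : Set.range j.base = (Set.range i.base)ᶜ) {V : X.ProEt} [IsAffine V.left] (R : Sieve V)
    (hU : ∀ ⦃P : X.ProEt⦄ (g : P ⟶ V), Set.range P.hom.base ⊆ Set.range j.base → R g)
    {ι : Type} [Finite ι] (T : ι → X.ProEt) (b : ∀ k, T k ⟶ V) (hT : ∀ k, IsAffine (T k).left) (hR : ∀ k, R (b k))
    (hs : ∀ x : ↥V.left, V.hom.base x ∈ Set.range i.base → ∃ k y, (und (b k)).base y = x) :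
    R ∈ Scheme.ProEt.topology X V := by
  classical
  let V₀ : Set ↥V.left := V.hom.base ⁻¹' Set.range j.base
  haveI : QuasiCompact (pullback.fst V.hom j) := MorphismProperty.pullback_fst (P := @QuasiCompact) _ j ‹_›
  haveI : CompactSpace ↥((𝟭 Scheme.{u}).obj V.left) := inferInstanceAs (CompactSpace ↥V.left)
  haveI : CompactSpace ↥(pullback V.hom j) :=
    QuasiCompact.compactSpace_of_compactSpace (pullback.fst V.hom j)
  have hcomp : IsCompact V₀ := by
    have : IsCompact (Set.range (pullback.fst V.hom j).base) := isCompact_range (pullback.fst V.hom j).continuous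
    rwa [Scheme.Pullback.range_fst] at this
  have H : ∀ x : V₀, ∃ A : V.left.Opens, IsAffineOpen A ∧ (x : ↥V.left) ∈ A ∧ (A : Set ↥V.left) ⊆ V₀ := by
    intro x
    have ho : IsOpen V₀ := j.isOpenEmbedding.isOpen_range.preimage V.hom.continuous
    obtain ⟨A, hA, hxA, hAV⟩ := exists_isAffineOpen_mem_and_subset (U := (⟨V₀, ho⟩ : V.left.Opens)) x.2
    exact ⟨A, hA, hxA, hAV⟩
  choose A hA hxA hAV using H
  obtain ⟨t, ht⟩ := hcomp.elim_finite_subcover (fun x => (A x : Set ↥V.left)) (fun x => (A x).isOpen)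
    fun x hx => Set.mem_iUnion.2 ⟨⟨x, hx⟩, hxA _⟩
  let e := (Finset.equivFin t).symm
  let T' : ι ⊕ Fin t.card → X.ProEt := Sum.elim T fun k => openObj V (A (e k))
  let b' : ∀ k, T' k ⟶ V := fun k => match k with
    | .inl k => b k
    | .inr k => openι V (A (e k))
  refine GrothendieckTopology.superset_covering _ ?_ (family_mem T' b' (fun k => ?_) fun x => ?_)
  · rw [Sieve.generate_le_iff]
    rintro _ _ ⟨k⟩
    cases k with
    | inl k => exact hR k
    | inr k =>
      refine hU _ ?_
      rintro _ ⟨z, rfl⟩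
      exact hAV (e k).1 z.2
  · cases k with
    | inl k => exact hT k
    | inr k => exact hA _
  · by_cases hx : V.hom.base x ∈ Set.range i.base
    · obtain ⟨k, y, hy⟩ := hs x hx
      exact ⟨.inl k, y, hy⟩
    · have hx' : x ∈ V₀ := by
        show V.hom.base x ∈ Set.range j.base
        rw [hc]; exact hx
      obtain ⟨y, hy, hxy⟩ := Set.mem_iUnion₂.1 (ht hx')
      obtain ⟨k, hk⟩ := e.surjective ⟨y, hy⟩
      refine ⟨.inr k, ⟨x, ?_⟩, rfl⟩
      rw [hk]; exact hxy

theorem covering_of_affines {V : X.ProEt} (R : Sieve V)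
    (h : ∀ (A : V.left.Opens), IsAffineOpen A → R.pullback (openι V A) ∈ Scheme.ProEt.topology X (openObj V A)) :
    R ∈ Scheme.ProEt.topology X V := by
  have H : ∀ x : ↥V.left, ∃ A : V.left.Opens, IsAffineOpen A ∧ x ∈ A := fun x => by
    obtain ⟨A, hA, hxA, -⟩ := exists_isAffineOpen_mem_and_subset (x := x) (U := ⊤) trivial
    exact ⟨A, hA, hxA⟩
  choose A hA hxA using H
  have hmem : Sieve.ofArrows (fun x => openObj V (A x)) (fun x => openι V (A x)) ∈ Scheme.ProEt.topology X V :=
    ofArrows_mem_of_mem _ _ (Scheme.zariskiPrecoverage_le_propQCPrecoverage _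
      ((Scheme.ofArrows_mem_precoverage_iff _).2
        ⟨fun x => ⟨x, ⟨x, hxA x⟩, rfl⟩, fun x => inferInstanceAs (IsOpenImmersion (A x).ι)⟩))
  refine GrothendieckTopology.transitive _ hmem R fun Y q hq => ?_
  obtain ⟨x, c, rfl⟩ := (Sieve.mem_ofArrows_iff _ _ _).1 hq
  rw [Sieve.pullback_comp]
  exact GrothendieckTopology.pullback_stable _ c (h (A x) (hA x))

omit [QuasiCompact j] in
theorem isEmpty_bc (hc : Set.range j.base = (Set.range i.base)ᶜ) {P : X.ProEt}
    (hP : Set.range P.hom.base ⊆ Set.range j.base) : IsEmpty ↥((ProEtS.bcP i).obj P).left := by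
  show IsEmpty ↥(pullback P.hom i)
  refine ⟨fun z => ?_⟩
  have h1 : P.hom.base ((pullback.fst P.hom i).base z) ∈ Set.range i.base :=
    ⟨(pullback.snd P.hom i).base z, (congrArg (fun m : pullback P.hom i ⟶ X => m.base z) pullback.condition).symm⟩
  exact (hc.le (hP ⟨_, rfl⟩)) h1

theorem pullback_pushforward_le [IsClosedImmersion i] {V W : X.ProEt} (f : W ⟶ V) (R : Sieve V) :
    (R.functorPushforward (ProEtS.bcP i)).pullback ((ProEtS.bcP i).map f) ≤
      (R.pullback f).functorPushforward (ProEtS.bcP i) := by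
  rintro T h ⟨P, p, q, hp, e⟩
  haveI := bcP_preservesFiniteLimits i
  haveI : HasFiniteLimits X.ProEt := inferInstance
  have hpb := (IsPullback.of_hasPullback p f).map (ProEtS.bcP i)
  refine ⟨pullback p f, pullback.snd p f, hpb.lift q h e.symm, ?_, (hpb.lift_snd _ _ _).symm⟩
  show R (pullback.snd p f ≫ f)
  rw [← pullback.condition]
  exact R.downward_closed hp _

variable [IsClosedImmersion i]

theorem covering_of_pushforward (hc : Set.range j.base = (Set.range i.base)ᶜ) {V : X.ProEt} (R : Sieve V)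
    (hU : ∀ ⦃P : X.ProEt⦄ (g : P ⟶ V), Set.range P.hom.base ⊆ Set.range j.base → R g)
    (hR : R.functorPushforward (ProEtS.bcP i) ∈ Scheme.ProEt.topology Z ((ProEtS.bcP i).obj V)) :
    R ∈ Scheme.ProEt.topology X V := by
  classical
  refine covering_of_affines R fun A hA => ?_
  haveI : IsAffine (openObj V A).left := hA
  haveI : IsAffine ((ProEtS.bcP i).obj (openObj V A)).left := by
    haveI : IsAffineHom (pullback.fst (openObj V A).hom i) :=
      MorphismProperty.pullback_fst (P := @IsAffineHom) _ i inferInstance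
    show IsAffine (pullback (openObj V A).hom i)
    exact @isAffine_of_isAffineHom _ _ (pullback.fst (openObj V A).hom i) ‹_› (show IsAffine (openObj V A).left from hA)
  obtain ⟨n, Q, g, hQ, hg, -, hsurj⟩ := exists_finite_affine' _
    (GrothendieckTopology.superset_covering _ (pullback_pushforward_le i (openι V A) R)
      ((Scheme.ProEt.topology Z).pullback_stable ((ProEtS.bcP i).map (openι V A)) hR))
  choose P p q hRp he using hg
  have hP : ∀ k, ∃ (m : ℕ) (B : Fin m → (P k).left.Opens), (∀ l, IsAffineOpen (B l)) ∧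
      ∀ z, ∃ l, ((und (q k)) ≫ pullback.fst (P k).hom i).base z ∈ B l := fun k => by
    haveI := hQ k
    have H : ∀ z : ↥(Q k).left, ∃ B : (P k).left.Opens, IsAffineOpen B ∧
        ((und (q k)) ≫ pullback.fst (P k).hom i).base z ∈ B := fun z => by
      obtain ⟨B, hB, hz, -⟩ := exists_isAffineOpen_mem_and_subset
        (x := ((und (q k)) ≫ pullback.fst (P k).hom i).base z) (U := ⊤) trivial
      exact ⟨B, hB, hz⟩
    choose B hB hz using H
    obtain ⟨t, ht⟩ := isCompact_univ.elim_finite_subcover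
      (fun z : ↥(Q k).left => ((und (q k)) ≫ pullback.fst (P k).hom i).base ⁻¹' (B z : Set ↥(P k).left))
      (fun z => (B z).isOpen.preimage ((und (q k)) ≫ pullback.fst (P k).hom i).continuous)
      fun z _ => Set.mem_iUnion.2 ⟨z, hz z⟩
    refine ⟨t.card, fun l => B ((Finset.equivFin t).symm l), fun l => hB _, fun z => ?_⟩
    obtain ⟨y, hy, hzy⟩ := Set.mem_iUnion₂.1 (ht (Set.mem_univ z))
    exact ⟨Finset.equivFin t ⟨y, hy⟩, by simp only [Equiv.symm_apply_apply]; exact hzy⟩
  choose m B hB hzB using hP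
  refine covering_of_nearCover i j hc (R.pullback (openι V A))
    (fun P' g' h => hU _ h) (ι := Σ k, Fin (m k)) (fun kl => openObj (P kl.1) (B kl.1 kl.2))
    (fun kl => openι (P kl.1) (B kl.1 kl.2) ≫ p kl.1) (fun kl => hB _ _)
    (fun kl => (R.pullback (openι V A)).downward_closed (hRp kl.1) _) fun x hx => ?_
  obtain ⟨z, hz⟩ := hx
  obtain ⟨w, hw₁, hw₂⟩ := Scheme.Pullback.exists_preimage_pullback (f := (openObj V A).hom) (g := i) x z hz.symm
  obtain ⟨k, v, hv⟩ := hsurj w
  obtain ⟨l, hl⟩ := hzB k v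
  refine ⟨⟨k, l⟩, ⟨_, hl⟩, ?_⟩
  have e1 : und (g k) ≫ pullback.fst (openObj V A).hom i = (und (q k) ≫ pullback.fst (P k).hom i) ≫ und (p k) := by
    rw [show und (g k) = und (q k) ≫ und ((ProEtS.bcP i).map (p k)) from congrArg (fun mm => und mm) (he k),
      Category.assoc, bc_map_fst, Category.assoc]
  have e2 := congrArg (fun mm : (Q k).left ⟶ (openObj V A).left => mm.base v) e1
  refine e2.symm.trans ?_
  show (pullback.fst (openObj V A).hom i).base ((und (g k)).base v) = x
  rw [hv, hw₁]

variable [ProEtS.PCont i] [ProEtS.JPCont j]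

theorem sect_eq_of_isEmpty {S : Scheme.{u}} (G : ProEtS.AbP S) (P : S.ProEt) [IsEmpty ↥P.left]
    (a b : ProEtS.sectP G P) : a = b :=
  eq_of_isEmpty ((sheafCompose _ (forget AddCommGrpCat.{u + 1})).obj G) P a b

theorem sect_ext {S : Scheme.{u}} (G : ProEtS.AbP S) {V : S.ProEt} (R : Sieve V) (hR : R ∈ Scheme.ProEt.topology S V)
    (a b : ProEtS.sectP G V) (h : ∀ ⦃P : S.ProEt⦄ (g : P ⟶ V), R g → G.obj.map g.op a = G.obj.map g.op b) : a = b :=
  (((isSheaf_iff_isSheaf_of_type _ _).1
      ((Presheaf.isSheaf_iff_isSheaf_forget _ _ (forget AddCommGrpCat.{u + 1})).1 G.property)) _ hR).isSeparatedFor.ext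
    fun _ g hg => h g hg

omit [QuasiCompact j] [IsClosedImmersion i] [ProEtS.PCont i] in
theorem counit_bijective (F : ProEtS.AbP X) {P : X.ProEt} (hP : Set.range P.hom.base ⊆ Set.range j.base)
    [ProEtS.PCont j] :
    Function.Bijective (((ProEtS.extZeroPAdj j).counit.app F).hom.app (op P)) := by
  haveI : WeaklyEtale P.hom := P.prop
  let a : P.left ⟶ U := IsOpenImmersion.lift j P.hom hP
  haveI : WeaklyEtale (a ≫ j) := by rw [IsOpenImmersion.lift_fac]; exact P.prop
  haveI : WeaklyEtale a := WeaklyEtale.of_comp _ j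
  let P' : U.ProEt := Scheme.ProEt.mk a
  let φ : (ProEtS.compP j).obj P' ⟶ P :=
    MorphismProperty.Over.homMk (𝟙 P.left) ((Category.id_comp _).trans (IsOpenImmersion.lift_fac j P.hom hP).symm)
  let ψ : P ⟶ (ProEtS.compP j).obj P' :=
    MorphismProperty.Over.homMk (𝟙 P.left) ((Category.id_comp _).trans (IsOpenImmersion.lift_fac j P.hom hP))
  haveI : IsIso φ := ⟨ψ, hom_ext_und (Category.comp_id _), hom_ext_und (Category.comp_id _)⟩
  haveI : IsIso ((ProEtS.extZeroPAdj j).unit.app ((ProEtS.restrP j).obj F)) :=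
    (openImmersion_unit_counit j ((ProEtS.restrP j).obj F) ((ProEtS.restrP j).obj F)).1
  haveI hiso : IsIso ((ProEtS.restrP j).map ((ProEtS.extZeroPAdj j).counit.app F)) :=
    IsIso.of_isIso_fac_left ((ProEtS.extZeroPAdj j).right_triangle_components F)
  haveI : IsIso (((ProEtS.extZeroPAdj j).counit.app F).hom.app (op ((ProEtS.compP j).obj P'))) :=
    inferInstanceAs (IsIso (((sheafToPresheaf _ _).map
      ((ProEtS.restrP j).map ((ProEtS.extZeroPAdj j).counit.app F))).app (op P')))
  haveI : IsIso (((ProEtS.extZeroPAdj j).counit.app F).hom.app (op P)) := by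
    have := ((ProEtS.extZeroPAdj j).counit.app F).hom.naturality φ.op
    rw [show ((ProEtS.extZeroPAdj j).counit.app F).hom.app (op P) = (_ ≫ _) ≫ inv (((𝟭 (ProEtS.AbP X)).obj F).obj.map φ.op) from
      (IsIso.eq_comp_inv _).2 this.symm]
    infer_instance
  exact ConcreteCategory.bijective_of_isIso _

theorem shortExact (hc : Set.range j.base = (Set.range i.base)ᶜ) [ProEtS.PCont j] (F : ProEtS.AbP X) :
    ∃ h : (ProEtS.extZeroPAdj j).counit.app F ≫ (ProEtS.pullPushAdjP i).unit.app F = 0,
      (ShortComplex.mk _ _ h).ShortExact := by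
  let ε := (ProEtS.extZeroPAdj j).counit.app F
  let η := (ProEtS.pullPushAdjP i).unit.app F
  have hdisj : Disjoint (Set.range j.base) (Set.range i.base) := by
    rw [hc]; exact disjoint_compl_left
  have hsub : ∀ (P : X.ProEt) (G : ProEtS.AbP Z), Set.range P.hom.base ⊆ Set.range j.base →
      ∀ a b : ProEtS.sectP ((ProEtS.pushP i).obj G) P, a = b := fun P G hP a b =>
    haveI := isEmpty_bc i j hc hP
    sect_eq_of_isEmpty G _ a b
  have h0 : ε ≫ η = 0 := by
    apply ((ProEtS.extZeroPAdj j).homEquiv _ _).injective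
    refine Sheaf.hom_ext (NatTrans.ext (funext fun W => ?_))
    ext x
    exact hsub _ _ (by rintro _ ⟨z, rfl⟩; exact ⟨_, rfl⟩) _ _
  have hmono : ∀ (W : X.ProEtᵒᵖ), Function.Injective (ε.hom.app W) := fun W =>
    (injective_iff_map_eq_zero _).2 fun t ht => by
      let R : Sieve W.unop :=
        { arrows := fun P g => ((ProEtS.extZeroP j).obj ((ProEtS.restrP j).obj F)).obj.map g.op t = 0
          downward_closed := fun {P Q g} hg q => by
            show _ = 0
            rw [← map_map, hg, map_zero] }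
      have hR : R ∈ Scheme.ProEt.topology X W.unop := covering_of_affines R fun A hA => by
        haveI : IsAffine (openObj W.unop A).left := hA
        obtain ⟨ι, hι, T', b, h1, h2, h3⟩ :=
          extZero_vanishesNear i j hdisj ((ProEtS.restrP j).obj F) t (openObj W.unop A) (openι W.unop A)
        refine covering_of_nearCover i j hc _ (fun P g hg => ?_) T' b h1 h2 h3
        refine (counit_bijective j F hg).1 (Eq.trans ?_ (map_zero _).symm)
        refine (ConcreteCategory.congr_hom (ε.hom.naturality (g ≫ openι W.unop A).op) t).trans ?_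
        show (F.obj.map (g ≫ openι W.unop A).op) (ε.hom.app W t) = 0
        rw [ht, map_zero]
      exact sect_ext _ R hR t 0 fun P g hg => by rw [map_zero]; exact hg
  haveI : Mono ε := by
    haveI : ∀ W, Mono (ε.hom.app W) := fun W => ConcreteCategory.mono_of_injective _ (hmono W)
    haveI : Mono ((sheafToPresheaf _ _).map ε) := NatTrans.mono_of_mono_app ε.hom
    exact (sheafToPresheaf _ _).mono_of_mono_map ‹_›
  haveI : Balanced (ProEtS.AbP X) := inferInstance
  haveI : Epi η := by
    refine (Sheaf.isLocallySurjective_iff_epi' (J := Scheme.ProEt.topology X) (A := AddCommGrpCat.{u + 1}) η).1 ⟨fun {V} t => ?_⟩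
    exact covering_of_pushforward i j hc _ (fun P g hg => ⟨0, hsub P _ hg _ _⟩)
      (cover_mem_image i F t _ fun P g s hs => ⟨s, hs⟩)
  refine ⟨h0, ?_⟩
  haveI : Mono (ShortComplex.mk ε η h0).f := ‹Mono ε›
  haveI : Epi (ShortComplex.mk ε η h0).g := ‹Epi η›
  refine ShortComplex.ShortExact.mk' ((ShortComplex.exact_iff_epi_kernel_lift _).2 ?_) ‹_› ‹_›
  refine (Sheaf.isLocallySurjective_iff_epi' (J := Scheme.ProEt.topology X) (A := AddCommGrpCat.{u + 1}) _).1 ⟨fun {V} x => ?_⟩
  let κ := kernel.ι η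
  have hκ : ∀ P, Function.Injective (κ.hom.app P) := fun P => by
    haveI : Mono ((sheafToPresheaf (Scheme.ProEt.topology X) AddCommGrpCat.{u + 1}).map κ) := inferInstance
    exact (AddCommGrpCat.mono_iff_injective _).1 ((NatTrans.mono_iff_mono_app _).1 ‹_› P)
  have hx0 : η.hom.app (op V) (κ.hom.app (op V) x) = 0 :=
    congrArg (fun m : kernel η ⟶ (ProEtS.pushP i).obj ((ProEtS.pullP i).obj F) => m.hom.app (op V) x) (kernel.condition η)
  refine GrothendieckTopology.superset_covering _ ?_
    (covering_of_pushforward i j hc (Presheaf.imageSieve ε.hom (κ.hom.app (op V) x))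
      (fun P g hg => (counit_bijective j F hg).2 _)
      (cover_eq_zero i F _ hx0 _ fun P g hg => ⟨0, (map_zero _).trans hg.symm⟩))
  rintro P g ⟨t, ht⟩
  refine ⟨t, hκ _ ?_⟩
  refine (congrArg (fun m : _ ⟶ F => m.hom.app (op P) t) (kernel.lift_ι η ε h0)).trans ?_
  exact ht.trans (ConcreteCategory.congr_hom (κ.hom.naturality g.op) x).symm

end Groth.Agent.WCSiteLib
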