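import Groth.Agent.WCSiteLib.Site
import Groth.Agent.WEtFieldLib.Basic
import Groth.Agent.WEtReducedLib.Basic

/-! Lifting geometric points along pro-étale coverings. -/

set_option autoImplicit false
set_option linter.style.haveILetI false
set_option backward.isDefEq.respectTransparency false
universe u

open CategoryTheory CategoryTheory.Limits AlgebraicGeometry Opposite

namespace Groth.Agent.WCSiteLib

open ProEtPtsLib

variable {S : Scheme.{u}}

theorem exists_hit {W : S.ProEt} (T : Sieve W) (hT : T ∈ Scheme.ProEt.topology S W) (x : ↥W.left) :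
    ∃ (V : S.ProEt) (g : V ⟶ W) (y : ↥V.left), T g ∧ (und g).base y = x := by
  have h1 := (CoverPreserving.of_isContinuous (Scheme.ProEt.forget S) (Scheme.ProEt.topology S)
    (Scheme.proetaleTopology.over S)).cover_preserve hT
  rw [GrothendieckTopology.mem_over_iff] at h1
  haveI : Scheme.proetalePrecoverage.{u}.HasPullbacks := inferInstance
  obtain ⟨R, hR, hle⟩ := Precoverage.mem_toGrothendieck_iff_of_isStableUnderComposition.1 h1
  obtain ⟨𝒰, hqc, rfl⟩ := Scheme.mem_propQCPrecoverage_iff_exists_quasiCompactCover.1 hR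
  obtain ⟨k, z, hz⟩ := 𝒰.exists_eq x
  have hk : (Sieve.overEquiv _ (T.functorPushforward (Scheme.ProEt.forget S))) (𝒰.f k) := hle _ _ ⟨k⟩
  rw [Sieve.overEquiv_iff] at hk
  obtain ⟨Y, h, a, hh, e⟩ := hk
  refine ⟨Y, h, a.left.base z, hh, ?_⟩
  have e' : 𝒰.f k = a.left ≫ und h := congrArg (·.left) e
  exact (congrArg (fun m : _ ⟶ W.left => m.base z) e').symm.trans hz

theorem exists_point_of_weaklyEtale {k : Type u} [Field k] [IsSepClosed k] {P : Scheme.{u}}
    (p : P ⟶ Spec (CommRingCat.of k)) [WeaklyEtale p] [Nonempty ↥P] :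
    ∃ s : Spec (CommRingCat.of k) ⟶ P, s ≫ p = 𝟙 _ := by
  obtain ⟨x⟩ := ‹Nonempty ↥P›
  obtain ⟨i, z, -⟩ := P.affineCover.exists_eq x
  obtain ⟨A, c, hc, z⟩ : ∃ (A : CommRingCat.{u}) (c : Spec A ⟶ P), IsOpenImmersion c ∧ Nonempty ↥(Spec A) :=
    ⟨_, P.affineOpenCover.f i, inferInstance, ⟨z⟩⟩
  haveI := hc
  obtain ⟨φ, hφ⟩ := Spec.map_surjective (c ≫ p)
  haveI : WeaklyEtale (Spec.map φ) := by rw [hφ]; infer_instance
  letI : Algebra k A := φ.hom.toAlgebra
  haveI : Algebra.WeaklyEtale k A := WEtReducedLib.weaklyEtale_of_spec φ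
  obtain ⟨z⟩ := z
  haveI : Nontrivial A := PrimeSpectrum.nonempty_iff_nontrivial.1 ⟨z⟩
  obtain ⟨M, hM⟩ := Ideal.exists_maximal A
  letI : Field (A ⧸ M) := Ideal.Quotient.field M
  haveI : Algebra.IsEpi A (A ⧸ M) := Algebra.isEpi_of_surjective_algebraMap _ _ Ideal.Quotient.mk_surjective
  haveI : Algebra.WeaklyEtale k (A ⧸ M) := WEtFieldLib.weaklyEtale_of_epi (B := A) _
  haveI := SweepSix.isSeparable_of_weaklyEtale (K := k) (L := A ⧸ M)
  let e : k ≃+* A ⧸ M := RingEquiv.ofBijective (algebraMap k (A ⧸ M)) (IsSepClosed.algebraMap_bijective k (A ⧸ M))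
  let r : A ⟶ CommRingCat.of k := CommRingCat.ofHom (e.symm.toRingHom.comp (Ideal.Quotient.mk M))
  refine ⟨Spec.map r ≫ c, ?_⟩
  rw [Category.assoc, ← hφ, ← Spec.map_comp, ← Spec.map_id]
  congr 1
  ext a
  exact e.symm_apply_apply a

theorem exists_geometric_lift (U : S.ProEt) (R : Sieve U) (hR : R ∈ Scheme.ProEt.topology S U) {k : Type u} [Field k]
    [IsSepClosed k] (ξ : Spec (CommRingCat.of k) ⟶ U.left) :
    ∃ (V : S.ProEt) (g : V ⟶ U) (ξ' : Spec (CommRingCat.of k) ⟶ V.left), R g ∧ ξ' ≫ g.left = ξ := by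
  let pt : ↥(Spec (CommRingCat.of k)) := ⟨⊥, Ideal.bot_prime⟩
  obtain ⟨V, g, y, hg, hy⟩ := exists_hit R hR (ξ.base pt)
  haveI : WeaklyEtale U.hom := U.prop
  haveI : WeaklyEtale (und g) := by
    haveI : WeaklyEtale (und g ≫ U.hom) := by
      rw [show und g ≫ U.hom = V.hom from Over.w ((Scheme.ProEt.forget S).map g)]
      exact V.prop
    exact WeaklyEtale.of_comp _ U.hom
  haveI : WeaklyEtale (pullback.snd (und g) ξ) := MorphismProperty.pullback_snd (P := @WeaklyEtale) _ ξ ‹_›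
  haveI : Nonempty ↥(pullback (und g) ξ) := by
    obtain ⟨w, -⟩ := Scheme.Pullback.exists_preimage_pullback (f := und g) (g := ξ) y pt hy
    exact ⟨w⟩
  obtain ⟨s, hs⟩ := exists_point_of_weaklyEtale (pullback.snd (und g) ξ)
  exact ⟨V, g, s ≫ pullback.fst (und g) ξ, hg, by
    show (s ≫ pullback.fst (und g) ξ) ≫ und g = ξ
    rw [Category.assoc, pullback.condition, reassoc_of% hs]⟩

end Groth.Agent.WCSiteLib
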