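import Groth.Agent.WCSiteLib.GeomLift
import Groth.Agent.WCSiteLib.Recollement
import Mathlib.AlgebraicGeometry.Morphisms.UniversallyOpen
import Mathlib.RingTheory.Ideal.MinimalPrime.Localization

/-! The unit `F ⟶ ε_* ε⁻¹ F` is an isomorphism. -/

set_option autoImplicit false
set_option linter.style.haveILetI false
set_option backward.isDefEq.respectTransparency false
set_option synthInstance.maxHeartbeats 400000
universe u

open CategoryTheory CategoryTheory.Limits AlgebraicGeometry Opposite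

namespace Groth.Agent.WCSiteLib

open ProEtPtsLib

/-- A point in the closure of the image of a closed set is a specialization of a point of the image. -/
theorem exists_specializes_of_mem_closure_image {W U : Scheme.{u}} [IsAffine W] [IsAffine U] (f : W ⟶ U)
    {D : Set ↥W} (hD : IsClosed D) {x : ↥U} (hx : x ∈ closure (f.base '' D)) : ∃ d ∈ D, f.base d ⤳ x := by
  let eW := Scheme.homeoOfIso W.isoSpec
  let eU := Scheme.homeoOfIso U.isoSpec
  let φ := f.appTop.hom
  have hsq : ∀ d, eU (f.base d) = PrimeSpectrum.comap φ (eW d) := fun d =>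
    (congrArg (fun m : W ⟶ Spec Γ(U, ⊤) => m.base d) (Scheme.isoSpec_hom_naturality f)).symm
  obtain ⟨I, hI⟩ := (PrimeSpectrum.isClosed_iff_zeroLocus_ideal _).1 (eW.isClosedMap D hD)
  have h1 : eU x ∈ closure (Set.range (PrimeSpectrum.comap ((Ideal.Quotient.mk I).comp φ))) := by
    refine closure_mono ?_ ((image_closure_subset_closure_image eU.continuous) ⟨x, hx, rfl⟩)
    rintro _ ⟨_, ⟨d, hd, rfl⟩, rfl⟩
    have hd' : eW d ∈ Set.range (PrimeSpectrum.comap (Ideal.Quotient.mk I)) := by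
      rw [range_comap_of_surjective _ _ Ideal.Quotient.mk_surjective, Ideal.mk_ker, ← hI]
      exact ⟨d, hd, rfl⟩
    obtain ⟨q, hq⟩ := hd'
    exact ⟨q, by rw [hsq, ← hq, PrimeSpectrum.comap_comp]; rfl⟩
  rw [PrimeSpectrum.closure_range_comap] at h1
  have hle : I.comap φ ≤ (eU x).asIdeal := fun a ha => h1 (by
    show Ideal.Quotient.mk I (φ a) = 0
    exact Ideal.Quotient.eq_zero_iff_mem.2 ha)
  obtain ⟨q, hq, hqx⟩ := Ideal.exists_minimalPrimes_le hle
  obtain ⟨P, hP, hIP, hPq⟩ := Ideal.exists_comap_eq_of_mem_minimalPrimes φ q hq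
  obtain ⟨d, hd, hdP⟩ : (⟨P, hP⟩ : PrimeSpectrum ↥Γ(W, ⊤)) ∈ eW '' D := by rw [hI]; exact hIP
  refine ⟨d, hd, eU.isInducing.specializes_iff.1 ?_⟩
  refine (PrimeSpectrum.le_iff_specializes (eU (f.base d)) (eU x)).1 ?_
  show (eU (f.base d)).asIdeal ≤ (eU x).asIdeal
  rw [hsq, hdP]
  exact hPq.le.trans hqx

variable {X : Scheme.{u}}

/-- An open subscheme of an étale object. -/
noncomputable def etObj (Q : X.Etale) (A : Q.left.Opens) : X.Etale :=
  MorphismProperty.Over.mk ⊤ (A.ι ≫ Q.hom) (by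
    haveI : Etale Q.hom := Q.prop
    exact inferInstanceAs (Etale (A.ι ≫ Q.hom)))

/-- Its inclusion. -/
noncomputable def etι (Q : X.Etale) (A : Q.left.Opens) : etObj Q A ⟶ Q :=
  MorphismProperty.Over.homMk A.ι rfl trivial

/-- The fibre product over the base of two étale objects. -/
noncomputable def etProd (U V : X.Etale) : X.Etale :=
  MorphismProperty.Over.mk ⊤ (pullback.fst U.hom V.hom ≫ U.hom) (by
    haveI : Etale U.hom := U.prop
    haveI : Etale V.hom := V.prop
    exact inferInstanceAs (Etale (pullback.fst U.hom V.hom ≫ U.hom)))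

/-- The first projection. -/
noncomputable def etFst (U V : X.Etale) : etProd U V ⟶ U :=
  MorphismProperty.Over.homMk (pullback.fst U.hom V.hom) rfl trivial

/-- The second projection. -/
noncomputable def etSnd (U V : X.Etale) : etProd U V ⟶ V :=
  MorphismProperty.Over.homMk (pullback.snd U.hom V.hom) pullback.condition.symm trivial

theorem isOpenMap_et {Q Q' : X.Etale} (f : Q' ⟶ Q) : IsOpenMap f.left.base := by
  haveI : Etale Q.hom := Q.prop
  haveI : Etale (f.left ≫ Q.hom) := by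
    rw [MorphismProperty.Over.w f]; exact Q'.prop
  haveI : Etale f.left := MorphismProperty.of_postcomp (@AlgebraicGeometry.Etale) f.left Q.hom Q.prop ‹_›
  exact f.left.isOpenMap

theorem et_eq_zero_of_cover (F : EtCoh.Ab X) {U : X.Etale} (s : F.obj.obj (op U))
    (h : ∀ x : ↥U.left, ∃ (Q : X.Etale) (p : Q ⟶ U) (y : ↥Q.left), p.left.base y = x ∧ F.obj.map p.op s = 0) :
    s = 0 := by
  choose Q p y hy hp using h
  have hmem : Sieve.ofArrows Q p ∈ X.smallEtaleTopology U :=
    (Scheme.ofArrows_mem_smallEtaleTopology_iff p).2 (Set.eq_univ_of_forall fun x => Set.mem_iUnion.2 ⟨x, y x, hy x⟩)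
  refine (((isSheaf_iff_isSheaf_of_type _ _).1
      ((Presheaf.isSheaf_iff_isSheaf_forget _ _ (forget AddCommGrpCat.{u + 1})).1 F.property)) _ hmem).isSeparatedFor.ext
    fun Y g hg => ?_
  obtain ⟨k, a, rfl⟩ := (Sieve.mem_ofArrows_iff _ _ _).1 hg
  show (F.obj.map (a ≫ p k).op) s = (F.obj.map (a ≫ p k).op) (0 : F.obj.obj (op U))
  rw [map_zero, op_comp, Functor.map_comp, CategoryTheory.comp_apply, hp, map_zero]

/-- The open locus where a section vanishes. -/
def zeroLocusEt (F : EtCoh.Ab X) {Q : X.Etale} (s : F.obj.obj (op Q)) : Q.left.Opens :=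
  ⟨⋃ (Q' : X.Etale) (p : Q' ⟶ Q) (_ : F.obj.map p.op s = 0), Set.range p.left.base,
    isOpen_iUnion fun _ => isOpen_iUnion fun p => isOpen_iUnion fun _ => (isOpenMap_et p).isOpen_range⟩

theorem map_zeroLocusEt (F : EtCoh.Ab X) {Q : X.Etale} (s : F.obj.obj (op Q)) :
    F.obj.map (etι Q (zeroLocusEt F s)).op s = 0 := by
  refine et_eq_zero_of_cover F _ fun x => ?_
  obtain ⟨Q', hQ'⟩ := Set.mem_iUnion.1 x.2
  obtain ⟨p, hp'⟩ := Set.mem_iUnion.1 hQ'
  obtain ⟨hp, y, hy⟩ := Set.mem_iUnion.1 hp'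
  have hsub : Set.range p.left.base ⊆ (zeroLocusEt F s : Set ↥Q.left) := fun z hz =>
    Set.mem_iUnion.2 ⟨Q', Set.mem_iUnion.2 ⟨p, Set.mem_iUnion.2 ⟨hp, hz⟩⟩⟩
  let l : Q' ⟶ etObj Q (zeroLocusEt F s) :=
    MorphismProperty.Over.homMk (IsOpenImmersion.lift (zeroLocusEt F s).ι p.left (fun z hz => (zeroLocusEt F s).range_ι.ge (hsub hz)))
      (by
        show IsOpenImmersion.lift _ _ _ ≫ (zeroLocusEt F s).ι ≫ Q.hom = _
        rw [IsOpenImmersion.lift_fac_assoc]
        exact MorphismProperty.Over.w p) trivial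
  have hl : l ≫ etι Q (zeroLocusEt F s) = p := MorphismProperty.Over.Hom.ext (IsOpenImmersion.lift_fac _ _ _)
  refine ⟨Q', l, y, Subtype.ext ?_, ?_⟩
  · exact (congrArg (fun m : Q'.left ⟶ Q.left => m.base y) (congrArg (fun m => m.left) hl)).trans hy
  · rw [← CategoryTheory.comp_apply, ← Functor.map_comp, ← op_comp, hl, hp]

variable (P : X.Etaleᵒᵖ ⥤ AddCommGrpCat.{u + 1})

/-- An element of the left Kan extension along `eps`. -/
noncomputable def lanElE (W : X.ProEt) (V : X.Etale) (a : W ⟶ (ProEtS.eps X).obj V) (s : P.obj (op V)) :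
    ((ProEtS.eps X).op.lan.obj P).obj (op W) :=
  ((ProEtS.eps X).op.lan.obj P).map a.op (((ProEtS.eps X).op.lanUnit.app P).app (op V) s)

theorem lanElE_zero (W : X.ProEt) (V : X.Etale) (a : W ⟶ (ProEtS.eps X).obj V) :
    lanElE P W V a 0 = 0 :=
  (congrArg _ (map_zero _)).trans (map_zero _)

theorem lanElE_map {W W' : X.ProEt} (b : W' ⟶ W) (V : X.Etale) (a : W ⟶ (ProEtS.eps X).obj V) (s : P.obj (op V)) :
    ((ProEtS.eps X).op.lan.obj P).map b.op (lanElE P W V a s) = lanElE P W' V (b ≫ a) s := by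
  rw [lanElE, lanElE, op_comp, Functor.map_comp]; rfl

theorem lanElE_comp {W : X.ProEt} {V V' : X.Etale} (p : V' ⟶ V) (a : W ⟶ (ProEtS.eps X).obj V') (s : P.obj (op V)) :
    lanElE P W V' a (P.map p.op s) = lanElE P W V (a ≫ (ProEtS.eps X).map p) s := by
  rw [lanElE, lanElE, op_comp, Functor.map_comp]
  exact congrArg _ (ConcreteCategory.congr_hom (((ProEtS.eps X).op.lanUnit.app P).naturality p.op) s)

theorem eps_preservesFiniteLimits : PreservesFiniteLimits (ProEtS.eps X) := by
  haveI : PreservesFiniteLimits (Scheme.Etale.forget X) :=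
    inferInstanceAs (PreservesFiniteLimits (MorphismProperty.Over.forget EtCoh.etaleMP.{u} ⊤ X))
  haveI : PreservesFiniteLimits (ProEtS.eps X ⋙ Scheme.ProEt.forget X) :=
    preservesFiniteLimits_of_natIso (NatIso.ofComponents (fun U => Iso.refl _) : Scheme.Etale.forget X ≅ _)
  exact preservesFiniteLimits_of_reflects_of_preserves (ProEtS.eps X) (Scheme.ProEt.forget X)

theorem eps_isFiltered (W : X.ProEt) : IsFiltered (CostructuredArrow (ProEtS.eps X).op (op W)) := by
  haveI : HasFiniteLimits X.Etale := inferInstance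
  haveI := eps_preservesFiniteLimits (X := X)
  haveI : RepresentablyFlat (ProEtS.eps X) := flat_of_preservesFiniteLimits _
  infer_instance

theorem eps_forget_preservesColimit (W : X.ProEt) :
    PreservesColimit (CostructuredArrow.proj (ProEtS.eps X).op (op W) ⋙ P) (forget AddCommGrpCat.{u + 1}) := by
  haveI := eps_isFiltered W
  haveI : PreservesFilteredColimitsOfSize.{u, u + 1} (forget AddCommGrpCat.{u + 1}) :=
    preservesFilteredColimitsOfSize_of_univLE.{u + 1, u + 1} _
  infer_instance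

theorem lanElE_jointly_surjective (W : X.ProEt) (x : ((ProEtS.eps X).op.lan.obj P).obj (op W)) :
    ∃ V a s, lanElE P W V a s = x := by
  haveI := eps_isFiltered W
  haveI := eps_forget_preservesColimit P W
  obtain ⟨g, s, hs⟩ := Types.jointly_surjective_of_isColimit
    (isColimitOfPreserves (forget AddCommGrpCat.{u + 1})
      (Functor.isPointwiseLeftKanExtensionLeftKanExtensionUnit (ProEtS.eps X).op P (op W))) x
  exact ⟨g.left.unop, g.hom.unop, s, hs⟩

theorem lanElE_eq_zero (W : X.ProEt) {V : X.Etale} (a : W ⟶ (ProEtS.eps X).obj V) (s : P.obj (op V))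
    (h : lanElE P W V a s = 0) :
    ∃ (V' : X.Etale) (a' : W ⟶ (ProEtS.eps X).obj V') (p : V' ⟶ V),
      a' ≫ (ProEtS.eps X).map p = a ∧ P.map p.op s = 0 := by
  haveI := eps_isFiltered W
  haveI := eps_forget_preservesColimit P W
  obtain ⟨g, q, q', hq⟩ := (Types.FilteredColimit.isColimit_eq_iff _
    (isColimitOfPreserves (forget AddCommGrpCat.{u + 1})
      (Functor.isPointwiseLeftKanExtensionLeftKanExtensionUnit (ProEtS.eps X).op P (op W)))
    (i := CostructuredArrow.mk a.op) (j := CostructuredArrow.mk a.op) (xi := s) (xj := (0 : P.obj (op V)))).1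
      (h.trans (lanElE_zero P W V a).symm)
  refine ⟨g.left.unop, g.hom.unop, q.left.unop, congrArg Quiver.Hom.unop (CostructuredArrow.w q), ?_⟩
  exact hq.trans (map_zero (P.map q'.left).hom)

variable (F : EtCoh.Ab X)

/-- The sheafified left Kan extension. -/
noncomputable abbrev epsSh : ProEtS.AbP X :=
  (presheafToSheaf (Scheme.ProEt.topology X) AddCommGrpCat.{u + 1}).obj ((ProEtS.eps X).op.lan.obj F.obj)

/-- The element of `ε⁻¹F` over `W` defined by `a : W ⟶ V` and `s ∈ F(V)`. -/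
noncomputable def shEl (W : X.ProEt) (V : X.Etale) (a : W ⟶ (ProEtS.eps X).obj V) (s : F.obj.obj (op V)) :
    ProEtS.sectP (epsSh F) W :=
  (toSheafify (Scheme.ProEt.topology X) ((ProEtS.eps X).op.lan.obj F.obj)).app (op W) (lanElE F.obj W V a s)

theorem shEl_map {W W' : X.ProEt} (b : W' ⟶ W) (V : X.Etale) (a : W ⟶ (ProEtS.eps X).obj V) (s : F.obj.obj (op V)) :
    (epsSh F).obj.map b.op (shEl F W V a s) = shEl F W' V (b ≫ a) s := by
  refine (ConcreteCategory.congr_hom ((toSheafify (Scheme.ProEt.topology X) ((ProEtS.eps X).op.lan.obj F.obj)).naturality b.op) _).symm.trans ?_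
  exact congrArg (fun z => (toSheafify (Scheme.ProEt.topology X) ((ProEtS.eps X).op.lan.obj F.obj)).app (op W') z)
    (lanElE_map F.obj b V a s)

theorem shEl_comp {W : X.ProEt} {V V' : X.Etale} (p : V' ⟶ V) (a : W ⟶ (ProEtS.eps X).obj V') (s : F.obj.obj (op V)) :
    shEl F W V' a (F.obj.map p.op s) = shEl F W V (a ≫ (ProEtS.eps X).map p) s := by
  rw [shEl, shEl, lanElE_comp]

theorem shEl_zero (W : X.ProEt) (V : X.Etale) (a : W ⟶ (ProEtS.eps X).obj V) : shEl F W V a 0 = 0 := by
  rw [shEl, lanElE_zero, map_zero]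

theorem mem_zeroLocus_of_shEl_eq_zero {W : X.ProEt} {V : X.Etale} (a : W ⟶ (ProEtS.eps X).obj V)
    (s : F.obj.obj (op V)) (h : shEl F W V a s = 0) (w : ↥W.left) :
    (und a).base w ∈ zeroLocusEt F s := by
  have h0 : (toSheafify (Scheme.ProEt.topology X) ((ProEtS.eps X).op.lan.obj F.obj)).app (op W) (lanElE F.obj W V a s) =
      (toSheafify (Scheme.ProEt.topology X) ((ProEtS.eps X).op.lan.obj F.obj)).app (op W) 0 := h.trans (map_zero _).symm
  obtain ⟨T, g, y, hg, hy⟩ := exists_hit _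
    (Presheaf.equalizerSieve_mem (Scheme.ProEt.topology X) _ _ _ h0) w
  have e : lanElE F.obj T V (g ≫ a) s = 0 := (lanElE_map F.obj g V a s).symm.trans (hg.trans (map_zero _))
  obtain ⟨V', a', p, hp, hps⟩ := lanElE_eq_zero F.obj T _ s e
  refine Set.mem_iUnion.2 ⟨V', Set.mem_iUnion.2 ⟨p, Set.mem_iUnion.2 ⟨hps, (und a').base y, ?_⟩⟩⟩
  rw [← hy]
  exact congrArg (fun m : T ⟶ (ProEtS.eps X).obj V => (und m).base y) hp

theorem exists_el_hit {U : X.ProEt} (t : ProEtS.sectP (epsSh F) U) (u : ↥U.left) :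
    ∃ (W : X.ProEt) (g : W ⟶ U) (w : ↥W.left) (V : X.Etale) (a : W ⟶ (ProEtS.eps X).obj V) (s : F.obj.obj (op V)),
      (und g).base w = u ∧ (epsSh F).obj.map g.op t = shEl F W V a s := by
  obtain ⟨W, g, w, ⟨x, hx⟩, hw⟩ := exists_hit _
    (Presheaf.imageSieve_mem (Scheme.ProEt.topology X)
      (toSheafify (Scheme.ProEt.topology X) ((ProEtS.eps X).op.lan.obj F.obj)) t) u
  obtain ⟨V, a, s, rfl⟩ := lanElE_jointly_surjective F.obj W x
  exact ⟨W, g, w, V, a, s, hw, hx.symm⟩

theorem exists_open_vanish {U : X.ProEt} [IsAffine U.left] (t : ProEtS.sectP (epsSh F) U) {W' : X.ProEt}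
    (b : W' ⟶ U) (hb : (epsSh F).obj.map b.op t = 0) (x : ↥U.left) (hx : x ∈ Set.range (und b).base) :
    ∃ O : U.left.Opens, x ∈ O ∧ (epsSh F).obj.map (openι U O).op t = 0 := by
  obtain ⟨n, Wk, g, haff, hg, -, hsurj⟩ := exists_finite_affine' _
    (Presheaf.imageSieve_mem (Scheme.ProEt.topology X)
      (toSheafify (Scheme.ProEt.topology X) ((ProEtS.eps X).op.lan.obj F.obj)) t)
  have hel : ∀ k, ∃ (V : X.Etale) (a : Wk k ⟶ (ProEtS.eps X).obj V) (s : F.obj.obj (op V)),
      (epsSh F).obj.map (g k).op t = shEl F (Wk k) V a s := fun k => by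
    obtain ⟨z, hz⟩ := hg k
    obtain ⟨V, a, s, rfl⟩ := lanElE_jointly_surjective F.obj _ z
    exact ⟨V, a, s, hz.symm⟩
  choose V a s hts using hel
  let D : ∀ k, Set ↥(Wk k).left := fun k => ((und (a k)).base ⁻¹' (zeroLocusEt F (s k) : Set ↥(V k).left))ᶜ
  have hD : ∀ k, IsClosed (D k) := fun k =>
    ((zeroLocusEt F (s k)).isOpen.preimage (und (a k)).continuous).isClosed_compl
  let C : Set ↥U.left := ⋃ k, (und (g k)).base '' D k
  have hxC : x ∉ closure C := by
    intro hxc
    rw [show closure C = ⋃ k, closure ((und (g k)).base '' D k) from closure_iUnion_of_finite _] at hxc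
    obtain ⟨k, hk⟩ := Set.mem_iUnion.1 hxc
    haveI := haff k
    obtain ⟨d, hd, hdx⟩ := exists_specializes_of_mem_closure_image (W := (Wk k).left) (U := U.left) (und (g k)) (hD k) hk
    obtain ⟨w₀, hw₀⟩ := hx
    haveI := weaklyEtale_und b
    obtain ⟨w', -, hw'⟩ := Flat.generalizingMap (und b) (hw₀ ▸ hdx)
    let T := pullback (g k) b
    have hpb := (IsPullback.of_hasPullback (g k) b).map (Scheme.ProEt.forget X ⋙ Over.forget X)
    obtain ⟨z, hz₁, -⟩ := exists_preimage_isPullback hpb d w' hw'.symm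
    refine hd ?_
    have h1 : shEl F T (V k) (pullback.fst (g k) b ≫ a k) (s k) = 0 := by
      rw [← shEl_map, ← hts k, map_map, pullback.condition, ← map_map, hb, map_zero]
    have := mem_zeroLocus_of_shEl_eq_zero F _ _ h1 z
    rw [← hz₁]
    exact this
  let O : U.left.Opens := ⟨(closure C)ᶜ, isClosed_closure.isOpen_compl⟩
  refine ⟨O, hxC, ?_⟩
  let R : Sieve (openObj U O) :=
    Sieve.pullback (openι U O) (Sieve.ofArrows Wk g)
  have hR : R ∈ Scheme.ProEt.topology X (openObj U O) :=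
    (Scheme.ProEt.topology X).pullback_stable _ (family_mem Wk g haff hsurj)
  refine sect_ext (epsSh F) R hR _ 0 fun T q hq => ?_
  obtain ⟨k, c, hc⟩ := (Sieve.mem_ofArrows_iff _ _ _).1 hq
  rw [map_zero, map_map, hc, ← map_map, hts k, shEl_map]
  have hrange : Set.range (und (c ≫ a k)).base ⊆ (zeroLocusEt F (s k) : Set ↥(V k).left) := by
    rintro _ ⟨z, rfl⟩
    by_contra hz
    have h2 : (und (g k)).base ((und c).base z) ∈ C := Set.mem_iUnion.2 ⟨k, (und c).base z, hz, rfl⟩
    have h3 : (und (g k)).base ((und c).base z) ∈ O := by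
      rw [show (und (g k)).base ((und c).base z) = (und (openι U O)).base ((und q).base z) from
        (congrArg (fun m : T ⟶ U => (und m).base z) hc).symm]
      exact ((und q).base z).2
    exact h3 (subset_closure h2)
  let l : T ⟶ (ProEtS.eps X).obj (etObj (V k) (zeroLocusEt F (s k))) :=
    MorphismProperty.Over.homMk (IsOpenImmersion.lift (zeroLocusEt F (s k)).ι (und (c ≫ a k))
        (fun z hz => (zeroLocusEt F (s k)).range_ι.ge (hrange hz)))
      (by
        show IsOpenImmersion.lift _ _ _ ≫ (zeroLocusEt F (s k)).ι ≫ (V k).hom = _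
        rw [IsOpenImmersion.lift_fac_assoc]
        exact Over.w ((Scheme.ProEt.forget X).map (c ≫ a k)))
  have hl : l ≫ (ProEtS.eps X).map (etι (V k) (zeroLocusEt F (s k))) = c ≫ a k :=
    hom_ext_und (IsOpenImmersion.lift_fac _ _ _)
  rw [← hl, ← shEl_comp, map_zeroLocusEt, shEl_zero]

theorem shEl_injective {U : X.Etale} (s : F.obj.obj (op U))
    (h : shEl F _ U (𝟙 ((ProEtS.eps X).obj U)) s = 0) : s = 0 := by
  refine et_eq_zero_of_cover F s fun x => ?_
  obtain ⟨Q, hQ⟩ := Set.mem_iUnion.1 (mem_zeroLocus_of_shEl_eq_zero F _ s h x)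
  obtain ⟨p, hp'⟩ := Set.mem_iUnion.1 hQ
  obtain ⟨hp, y, hy⟩ := Set.mem_iUnion.1 hp'
  exact ⟨Q, p, y, hy, hp⟩

theorem shEl_locally_surjective {U : X.Etale} (t : ProEtS.sectP (epsSh F) ((ProEtS.eps X).obj U)) (x : ↥U.left) :
    ∃ (Q : X.Etale) (q : Q ⟶ U) (y : ↥Q.left) (s : F.obj.obj (op Q)), q.left.base y = x ∧
      shEl F _ Q (𝟙 ((ProEtS.eps X).obj Q)) s = (epsSh F).obj.map ((ProEtS.eps X).map q).op t := by
  obtain ⟨W, g, w, V, a, s, hw, ht⟩ := exists_el_hit F t x
  let a' : W ⟶ (ProEtS.eps X).obj (etProd V U) :=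
    MorphismProperty.Over.homMk (pullback.lift (f := V.hom) (g := U.hom) (und a) (und g)
        ((Over.w ((Scheme.ProEt.forget X).map a)).trans (Over.w ((Scheme.ProEt.forget X).map g)).symm))
      (by
        show pullback.lift _ _ _ ≫ pullback.fst V.hom U.hom ≫ V.hom = _
        rw [pullback.lift_fst_assoc]
        exact Over.w ((Scheme.ProEt.forget X).map a))
  have ha₁ : a' ≫ (ProEtS.eps X).map (etFst V U) = a := hom_ext_und (pullback.lift_fst _ _ _)
  have ha₂ : a' ≫ (ProEtS.eps X).map (etSnd V U) = g := hom_ext_und (pullback.lift_snd _ _ _)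
  obtain ⟨A, hA, hwA, -⟩ := exists_isAffineOpen_mem_and_subset (x := (und a').base w) (U := ⊤) trivial
  let q : etObj (etProd V U) A ⟶ U := etι (etProd V U) A ≫ etSnd V U
  let s₁ := F.obj.map (etι (etProd V U) A).op (F.obj.map (etFst V U).op s)
  let W₁ := openObj W ((und a') ⁻¹ᵁ A)
  let a₁ : W₁ ⟶ (ProEtS.eps X).obj (etObj (etProd V U) A) :=
    MorphismProperty.Over.homMk (IsOpenImmersion.lift A.ι (((und a') ⁻¹ᵁ A).ι ≫ und a') (by
        rintro _ ⟨z, rfl⟩
        exact A.range_ι.ge z.2))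
      (by
        show IsOpenImmersion.lift _ _ _ ≫ A.ι ≫ (etProd V U).hom = _
        rw [IsOpenImmersion.lift_fac_assoc]
        exact congrArg (((und a') ⁻¹ᵁ A).ι ≫ ·) (Over.w ((Scheme.ProEt.forget X).map a')))
  have ha₃ : a₁ ≫ (ProEtS.eps X).map (etι (etProd V U) A) = openι W _ ≫ a' :=
    hom_ext_und (IsOpenImmersion.lift_fac _ _ _)
  let t' := (epsSh F).obj.map ((ProEtS.eps X).map q).op t - shEl F _ _ (𝟙 ((ProEtS.eps X).obj (etObj (etProd V U) A))) s₁
  have h0 : (epsSh F).obj.map a₁.op t' = 0 := by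
    rw [map_sub, sub_eq_zero, map_map, shEl_map, Category.comp_id, Functor.map_comp, ← Category.assoc, ha₃,
      Category.assoc, ha₂, ← map_map, ht, shEl_map, shEl_comp, shEl_comp, ha₃, Category.assoc, ha₁]
  haveI : IsAffine ((ProEtS.eps X).obj (etObj (etProd V U) A)).left := hA
  obtain ⟨O, hyO, hO⟩ := exists_open_vanish F t' a₁ h0 ((und a₁).base ⟨w, hwA⟩) ⟨_, rfl⟩
  let Q := etObj (etObj (etProd V U) A) O
  refine ⟨Q, etι _ O ≫ q, (⟨_, hyO⟩ : (O : Scheme.{u})), F.obj.map (etι _ O).op s₁, ?_, ?_⟩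
  · show (pullback.snd V.hom U.hom).base ((A.ι).base ((und a₁).base ⟨w, hwA⟩)) = x
    rw [← hw, ← ha₂]
    exact congrArg (pullback.snd V.hom U.hom).base
      (congrArg (fun m : W₁ ⟶ (ProEtS.eps X).obj (etProd V U) => (und m).base ⟨w, hwA⟩) ha₃)
  · rw [shEl_comp, Category.id_comp, Functor.map_comp, ← map_map,
      show (ProEtS.eps X).map (etι (etObj (etProd V U) A) O) = openι _ O from hom_ext_und rfl]
    rw [map_sub, sub_eq_zero, shEl_map, Category.comp_id] at hO
    exact hO.symm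

theorem isIso_unit (X : Scheme.{u}) [ProEtS.EpsCont X] (F : EtCoh.Ab X) : IsIso ((ProEtS.epsAdj X).unit.app F) := by
  let adj' := Functor.sheafPullbackConstruction.sheafAdjunctionContinuous (ProEtS.eps X) AddCommGrpCat.{u + 1}
    X.smallEtaleTopology (Scheme.ProEt.topology X)
  let η' := adj'.unit.app F
  have h3 : η'.hom = ((ProEtS.eps X).op.lanUnit.app F.obj) ≫
      Functor.whiskerLeft (ProEtS.eps X).op (toSheafify (Scheme.ProEt.topology X) ((ProEtS.eps X).op.lan.obj F.obj)) := by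
    show (sheafToPresheaf _ _).map (adj'.unit.app F) = _
    dsimp only [adj', Functor.sheafPullbackConstruction.sheafAdjunctionContinuous]
    rw [Adjunction.map_restrictFullyFaithful_unit_app, Adjunction.comp_unit_app]
    simp
  have happ : ∀ (U : X.Etale) (s : F.obj.obj (op U)),
      η'.hom.app (op U) s = shEl F _ U (𝟙 ((ProEtS.eps X).obj U)) s := fun U s => by
    refine (congrArg (fun m : F.obj ⟶ _ => m.app (op U) s) h3).trans ?_
    rw [shEl, lanElE, op_id, CategoryTheory.Functor.map_id]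
    rfl
  haveI : IsIso η' := by
    haveI : Sheaf.IsLocallyInjective η' := ⟨fun {U} a b hab => by
      have h := shEl_injective F (U := U.unop) (a - b) (by rw [← happ, map_sub, sub_eq_zero]; exact hab)
      rw [sub_eq_zero.1 h, Presheaf.equalizerSieve_self_eq_top]
      exact GrothendieckTopology.top_mem _ _⟩
    haveI : Sheaf.IsLocallySurjective η' := ⟨fun {U} t => by
      choose Q q y s hy hs using fun x => shEl_locally_surjective F t x
      refine GrothendieckTopology.superset_covering _ ?_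
        ((Scheme.ofArrows_mem_smallEtaleTopology_iff q).2 (Set.eq_univ_of_forall fun x => Set.mem_iUnion.2 ⟨x, y x, hy x⟩))
      rw [Sieve.generate_le_iff]
      rintro _ _ ⟨x⟩
      exact ⟨s x, (happ _ _).trans (hs x)⟩⟩
    exact (Sheaf.isLocallyBijective_iff_isIso η').1 ⟨inferInstance, inferInstance⟩
  have h1 := Adjunction.unit_leftAdjointUniq_hom_app (ProEtS.epsAdj X) adj' F
  haveI : IsIso ((ProEtS.epsAdj X).unit.app F ≫
      (ProEtS.epsPush X).map (((ProEtS.epsAdj X).leftAdjointUniq adj').hom.app F)) := by rw [h1]; infer_instance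
  exact IsIso.of_isIso_comp_right _ ((ProEtS.epsPush X).map (((ProEtS.epsAdj X).leftAdjointUniq adj').hom.app F))

end Groth.Agent.WCSiteLib
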