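import Groth.Agent.WCSiteLib.Dense
import Mathlib.CategoryTheory.Adjunction.FullyFaithful

/-! Base change along a closed immersion is cover dense. -/

set_option autoImplicit false
set_option linter.style.haveILetI false
set_option backward.isDefEq.respectTransparency false
universe u

open CategoryTheory CategoryTheory.Limits AlgebraicGeometry Opposite

namespace Groth.Agent.WCSiteLib

open ProEtPtsLib

variable {X Z : Scheme.{u}} (i : Z ⟶ X) [IsClosedImmersion i]

theorem exists_local_lift (W : Z.ProEt) (w : ↥W.left) :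
    ∃ (B : Z.ProEt) (o : B ⟶ W) (D : Z.ProEt) (d : D ⟶ B) (V : X.ProEt) (r : (ProEtS.bcP i).obj V ⟶ D)
      (a : D ⟶ (ProEtS.bcP i).obj V), IsOpenImmersion (und o) ∧ w ∈ Set.range (und o).base ∧
      IsAffine B.left ∧ IsAffine D.left ∧ Surjective (und d) ∧ a ≫ r = 𝟙 D := by
  obtain ⟨X₁, hX₁, hxX₁, -⟩ := exists_isAffineOpen_mem_and_subset
    (x := i.base (W.hom.base w)) (U := ⊤) trivial
  let c : Spec Γ(X, X₁) ⟶ X := hX₁.fromSpec
  haveI : IsClosedImmersion (pullback.fst c i) := MorphismProperty.pullback_fst (P := @IsClosedImmersion) c i ‹_›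
  obtain ⟨I, e, he⟩ := IsClosedImmersion.Spec_iff.1 ‹IsClosedImmersion (pullback.fst c i)›
  let mkI : Γ(X, X₁) ⟶ CommRingCat.of (↥Γ(X, X₁) ⧸ I) := CommRingCat.ofHom (Ideal.Quotient.mk I)
  let c' : Spec (CommRingCat.of (↥Γ(X, X₁) ⧸ I)) ⟶ Z := e.inv ≫ pullback.snd c i
  have hc' : c' ≫ i = Spec.map mkI ≫ c := by
    rw [Category.assoc, ← pullback.condition, he, Category.assoc, Iso.inv_hom_id_assoc]
  haveI : IsOpenImmersion c' := inferInstance
  obtain ⟨z, hz⟩ : W.hom.base w ∈ Set.range c'.base := by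
    obtain ⟨y, hy⟩ : i.base (W.hom.base w) ∈ Set.range c.base := by rw [hX₁.range_fromSpec]; exact hxX₁
    obtain ⟨q, hq₁, hq₂⟩ := Scheme.Pullback.exists_preimage_pullback (f := c) (g := i) y (W.hom.base w) hy
    refine ⟨e.hom.base q, ?_⟩
    show (e.hom ≫ e.inv ≫ pullback.snd c i).base q = _
    rw [Iso.hom_inv_id_assoc]
    exact hq₂
  haveI : WeaklyEtale W.hom := W.prop
  obtain ⟨q, hq₁, hq₂⟩ := Scheme.Pullback.exists_preimage_pullback (f := W.hom) (g := c') w z hz.symm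
  let P := pullback W.hom c'
  obtain ⟨j, q', hq'⟩ := P.affineOpenCover.openCover.exists_eq q
  let Bc := P.affineOpenCover.X j
  let oB : Spec Bc ⟶ W.left := P.affineOpenCover.f j ≫ pullback.fst W.hom c'
  obtain ⟨φ, hφ⟩ := Spec.map_surjective (P.affineOpenCover.f j ≫ pullback.snd W.hom c')
  haveI : IsOpenImmersion oB := inferInstance
  haveI : WeaklyEtale (Spec.map φ) := by
    rw [hφ]
    haveI : WeaklyEtale (pullback.snd W.hom c') := MorphismProperty.pullback_snd (P := @WeaklyEtale) _ c' ‹_›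
    infer_instance
  letI : Algebra (↥Γ(X, X₁) ⧸ I) Bc := φ.hom.toAlgebra
  haveI : Algebra.WeaklyEtale (↥Γ(X, X₁) ⧸ I) Bc := WEtReducedLib.weaklyEtale_of_spec φ
  obtain ⟨D, _, _, _, _, hff, hBD, hID⟩ := WEtIndEtLib.exists_indEtale_refine (↥Γ(X, X₁) ⧸ I) Bc
  obtain ⟨C, _, _, hAC, ⟨ε⟩⟩ := Groth.Agent.S0755.result ↥Γ(X, X₁) I D hID
  haveI := Groth.Agent.S0736.result ↥Γ(X, X₁) C hAC
  haveI := Groth.Agent.S0736.result Bc D hBD
  let φC : Γ(X, X₁) ⟶ CommRingCat.of C := CommRingCat.ofHom (algebraMap ↥Γ(X, X₁) C)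
  let φD : Bc ⟶ CommRingCat.of D := CommRingCat.ofHom (algebraMap Bc D)
  let J := I.map (algebraMap ↥Γ(X, X₁) C)
  let qD : C →+* D := ε.toRingEquiv.toRingHom.comp (Ideal.Quotient.mk J)
  have hqD : ∀ x : ↥Γ(X, X₁), qD (algebraMap _ C x) = algebraMap Bc D (φ (mkI x)) := fun x =>
    (ε.commutes (Ideal.Quotient.mk I x)).trans (IsScalarTower.algebraMap_apply (↥Γ(X, X₁) ⧸ I) Bc D _)
  haveI : WeaklyEtale (Spec.map φC) := weaklyEtale_specMap ↥Γ(X, X₁) C
  haveI : WeaklyEtale (Spec.map φD) := weaklyEtale_specMap Bc D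
  haveI : IsOpenImmersion c := inferInstance
  let B : Z.ProEt := Scheme.ProEt.mk (oB ≫ W.hom)
  let o : B ⟶ W := MorphismProperty.Over.homMk oB rfl
  let Dz : Z.ProEt := Scheme.ProEt.mk (Spec.map φD ≫ oB ≫ W.hom)
  let d : Dz ⟶ B := MorphismProperty.Over.homMk (Spec.map φD) rfl
  let V : X.ProEt := Scheme.ProEt.mk (Spec.map φC ≫ c)
  have hoB : oB ≫ W.hom = Spec.map φ ≫ c' := by
    rw [hφ, Category.assoc, Category.assoc, pullback.condition]
  have hDz : Spec.map φD ≫ oB ≫ W.hom ≫ i = Spec.map (CommRingCat.ofHom qD) ≫ Spec.map φC ≫ c := by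
    rw [reassoc_of% hoB, hc', ← Spec.map_comp_assoc, ← Spec.map_comp_assoc, ← Spec.map_comp_assoc]
    refine congrArg (· ≫ c) (congrArg Spec.map ?_)
    ext x
    exact (hqD x).symm
  let a : Dz ⟶ (ProEtS.bcP i).obj V :=
    MorphismProperty.Over.homMk
      (pullback.lift (f := V.hom) (g := i) (Spec.map (CommRingCat.ofHom qD)) Dz.hom (by
        show _ = (Spec.map φD ≫ oB ≫ W.hom) ≫ i
        rw [Category.assoc, Category.assoc, hDz]
        rfl))
      (pullback.lift_snd _ _ _)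
  haveI : IsAffine V.left := inferInstanceAs (IsAffine (Spec (CommRingCat.of C)))
  haveI : IsAffineHom (pullback.fst V.hom i) := MorphismProperty.pullback_fst (P := @IsAffineHom) _ i inferInstance
  haveI : IsAffine (pullback V.hom i) := isAffine_of_isAffineHom (X := pullback V.hom i) (Y := Spec (CommRingCat.of C)) (pullback.fst V.hom i)
  let Q := pullback V.hom i
  obtain ⟨γ, hγ⟩ := Spec.map_surjective
    ((Q.isoSpec.inv ≫ pullback.fst V.hom i : Spec Γ(Q, ⊤) ⟶ Spec (CommRingCat.of C)))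
  let u : Q ⟶ pullback c i := pullback.lift (pullback.fst V.hom i ≫ Spec.map φC) (pullback.snd V.hom i) (by
    rw [Category.assoc]; exact pullback.condition)
  obtain ⟨ψ, hψ⟩ := Spec.map_surjective (Q.isoSpec.inv ≫ u ≫ e.hom)
  have hγψ : φC ≫ γ = mkI ≫ ψ := by
    apply Spec.map_injective
    rw [Spec.map_comp, Spec.map_comp, hγ, hψ, Category.assoc, Category.assoc, Category.assoc, ← he,
      pullback.lift_fst]
  have hJ : J ≤ RingHom.ker γ.hom := Ideal.map_le_iff_le_comap.2 fun x hx => by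
    show γ (φC x) = 0
    rw [show γ (φC x) = ψ (mkI x) from congrArg (fun m : Γ(X, X₁) ⟶ Γ(Q, ⊤) => m x) hγψ,
      show mkI x = 0 from Ideal.Quotient.eq_zero_iff_mem.2 hx, map_zero]
  let ρ : D →+* ↥Γ(Q, ⊤) := (Ideal.Quotient.lift J γ.hom fun x hx => hJ hx).comp ε.symm.toRingEquiv.toRingHom
  have hρ : ∀ x : C, ρ (qD x) = γ x := fun x =>
    (congrArg (Ideal.Quotient.lift J γ.hom fun x hx => hJ hx) (ε.symm_apply_apply (Ideal.Quotient.mk J x))).trans
      (Ideal.Quotient.lift_mk _ _ _)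
  let r₀ : Q ⟶ Spec (CommRingCat.of D) := Q.isoSpec.hom ≫ Spec.map (CommRingCat.ofHom ρ)
  have hr₀ : r₀ ≫ Spec.map (CommRingCat.ofHom qD) = pullback.fst V.hom i := by
    rw [Category.assoc, ← Spec.map_comp, show CommRingCat.ofHom qD ≫ CommRingCat.ofHom ρ = γ from by ext x; exact hρ x,
      hγ, Iso.hom_inv_id_assoc]
  let r : (ProEtS.bcP i).obj V ⟶ Dz :=
    MorphismProperty.Over.homMk r₀ (by
      show r₀ ≫ Spec.map φD ≫ oB ≫ W.hom = pullback.snd V.hom i
      rw [← cancel_mono i]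
      simp only [Category.assoc]
      rw [hDz, reassoc_of% hr₀]
      exact pullback.condition)
  have hqsurj : Function.Surjective qD := ε.surjective.comp Ideal.Quotient.mk_surjective
  refine ⟨B, o, Dz, d, V, r, a, ‹IsOpenImmersion oB›, ⟨q', ?_⟩, inferInstanceAs (IsAffine (Spec Bc)),
    inferInstanceAs (IsAffine (Spec (CommRingCat.of D))), ?_, hom_ext_und ?_⟩
  · show (P.affineOpenCover.f j ≫ pullback.fst W.hom c').base q' = w
    exact (congrArg (pullback.fst W.hom c').base hq').trans hq₁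
  · haveI := hff
    exact ⟨PrimeSpectrum.comap_surjective_of_faithfullyFlat (A := Bc) (B := D)⟩
  · haveI : Mono (Spec.map (CommRingCat.ofHom qD)) := by
      haveI := IsClosedImmersion.spec_of_surjective (CommRingCat.ofHom qD) hqsurj
      infer_instance
    show pullback.lift _ _ _ ≫ r₀ = 𝟙 (Spec (CommRingCat.of D))
    rw [← cancel_mono (Spec.map (CommRingCat.ofHom qD)), Category.assoc, hr₀, pullback.lift_fst, Category.id_comp]

theorem bcP_coverDense : (ProEtS.bcP i).IsCoverDense (Scheme.ProEt.topology Z) := by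
  refine ⟨fun W => ?_⟩
  choose B o D d V r a hoi hw hB hD hd har using exists_local_lift i W
  have hmem : Sieve.ofArrows B o ∈ Scheme.ProEt.topology Z W :=
    ofArrows_mem_of_mem (W := W) _ _ (Scheme.zariskiPrecoverage_le_propQCPrecoverage _
      ((Scheme.ofArrows_mem_precoverage_iff _).2 ⟨fun p => ⟨p, hw p⟩, hoi⟩))
  refine GrothendieckTopology.transitive _ hmem _ fun Y h hh => ?_
  obtain ⟨p, c, rfl⟩ := (Sieve.mem_ofArrows_iff _ _ _).1 hh
  rw [Sieve.pullback_comp]
  refine GrothendieckTopology.pullback_stable _ c ?_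
  haveI := hB p
  haveI := hD p
  refine GrothendieckTopology.superset_covering _ ?_ (single_mem (d p) (hd p))
  intro T q hq
  obtain ⟨-, b, rfl⟩ := (Sieve.mem_ofArrows_iff _ _ _).1 hq
  exact ⟨⟨V p, b ≫ a p, r p ≫ d p ≫ o p, by
    rw [Category.assoc, reassoc_of% (har p), ← Category.assoc]⟩⟩

theorem pushP_fullyFaithful [ProEtS.PCont i] :
    (ProEtS.pushP i).Full ∧ (ProEtS.pushP i).Faithful := by
  haveI := bcP_coverDense i
  haveI := bcP_locallyFull i
  haveI := bcP_locallyFaithful i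
  exact ⟨inferInstance, inferInstance⟩

theorem isIso_counit [ProEtS.PCont i] (F : ProEtS.AbP Z) : IsIso ((ProEtS.pullPushAdjP i).counit.app F) := by
  obtain ⟨_, _⟩ := pushP_fullyFaithful i
  infer_instance

end Groth.Agent.WCSiteLib
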