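import Groth.Agent.WCSiteLib.Recollement
import Groth.Agent.WLocalLib.Along
import Mathlib.CategoryTheory.Sites.LocallyBijective

/-! Inverse image along a closed immersion computed on w-contractible objects concentrated along it. -/

set_option autoImplicit false
set_option linter.style.haveILetI false
set_option backward.isDefEq.respectTransparency false
set_option synthInstance.maxHeartbeats 400000
universe u

open CategoryTheory CategoryTheory.Limits AlgebraicGeometry Opposite

namespace Groth.Agent.WCSiteLib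

open ProEtPtsLib

variable {X Z : Scheme.{u}} (i : Z ⟶ X) [IsClosedImmersion i]

/-- An affine weakly contractible object all whose points specialize to points over `Z`. -/
structure IsGood (V : X.ProEt) : Prop where
  affine : IsAffine V.left
  wc : EtPBC.IsWContractible ↥(Γ(V.left, ⊤))
  spec : ∀ v : ↥V.left, ∃ z : ↥V.left, V.hom.base z ∈ Set.range i.base ∧ v ⤳ z

theorem covering_of_pushforward_good {V : X.ProEt} [IsAffine V.left]
    (hV : ∀ v : ↥V.left, ∃ z : ↥V.left, V.hom.base z ∈ Set.range i.base ∧ v ⤳ z) (R : Sieve V)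
    (hR : R.functorPushforward (ProEtS.bcP i) ∈ Scheme.ProEt.topology Z ((ProEtS.bcP i).obj V)) :
    R ∈ Scheme.ProEt.topology X V := by
  classical
  haveI : IsAffine ((ProEtS.bcP i).obj V).left := by
    haveI : IsAffineHom (pullback.fst V.hom i) :=
      MorphismProperty.pullback_fst (P := @IsAffineHom) _ i inferInstance
    show IsAffine (pullback V.hom i)
    exact @isAffine_of_isAffineHom _ _ (pullback.fst V.hom i) ‹_› (show IsAffine V.left from ‹_›)
  obtain ⟨n, Q, g, hQ, hg, -, hsurj⟩ := exists_finite_affine' _ hR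
  choose P p q hRp he using hg
  have hP : ∀ k, ∃ (m : ℕ) (B : Fin m → (P k).left.Opens), (∀ l, IsAffineOpen (B l)) ∧
      ∀ z, ∃ l, ((und (q k)) ≫ pullback.fst (P k).hom i).base z ∈ B l := fun k => by
    haveI := hQ k
    have H : ∀ z : ↥(Q k).left, ∃ B : (P k).left.Opens, IsAffineOpen B ∧
        ((und (q k)) ≫ pullback.fst (P k).hom i).base z ∈ B := fun z => by
      obtain ⟨B, hB, hz, -⟩ := exists_isAffineOpen_mem_and_subset
        (x := ((und (q k)) ≫ pullback.fst (P k).hom i).base z) (U := ⊤) trivial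
      exact ⟨B, hB, hz⟩
    choose B hB hz using H
    obtain ⟨t, ht⟩ := isCompact_univ.elim_finite_subcover
      (fun z : ↥(Q k).left => ((und (q k)) ≫ pullback.fst (P k).hom i).base ⁻¹' (B z : Set ↥(P k).left))
      (fun z => (B z).isOpen.preimage ((und (q k)) ≫ pullback.fst (P k).hom i).continuous)
      fun z _ => Set.mem_iUnion.2 ⟨z, hz z⟩
    refine ⟨t.card, fun l => B ((Finset.equivFin t).symm l), fun l => hB _, fun z => ?_⟩
    obtain ⟨y, hy, hzy⟩ := Set.mem_iUnion₂.1 (ht (Set.mem_univ z))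
    exact ⟨Finset.equivFin t ⟨y, hy⟩, by simp only [Equiv.symm_apply_apply]; exact hzy⟩
  choose m B hB hzB using hP
  let T : (Σ k, Fin (m k)) → X.ProEt := fun kl => openObj (P kl.1) (B kl.1 kl.2)
  let b : ∀ kl, T kl ⟶ V := fun kl => openι (P kl.1) (B kl.1 kl.2) ≫ p kl.1
  have hs : ∀ x : ↥V.left, ∃ kl y, (und (b kl)).base y = x := fun v => by
    obtain ⟨z, ⟨w, hw⟩, hvz⟩ := hV v
    obtain ⟨w', hw₁, -⟩ := Scheme.Pullback.exists_preimage_pullback (f := V.hom) (g := i) z w hw.symm
    obtain ⟨k, x, hx⟩ := hsurj w'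
    obtain ⟨l, hl⟩ := hzB k x
    have e1 : und (g k) ≫ pullback.fst V.hom i = (und (q k) ≫ pullback.fst (P k).hom i) ≫ und (p k) := by
      rw [show und (g k) = und (q k) ≫ und ((ProEtS.bcP i).map (p k)) from congrArg (fun mm => und mm) (he k),
        Category.assoc, bc_map_fst, Category.assoc]
    have e3 : (und (b ⟨k, l⟩)).base ⟨_, hl⟩ = z := by
      refine (congrArg (fun mm : (Q k).left ⟶ V.left => mm.base x) e1).symm.trans ?_
      show (pullback.fst V.hom i).base ((und (g k)).base x) = z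
      rw [hx, hw₁]
    haveI := weaklyEtale_und (b ⟨k, l⟩)
    obtain ⟨y', -, hy'⟩ := Flat.generalizingMap (und (b ⟨k, l⟩)) (e3 ▸ hvz)
    exact ⟨⟨k, l⟩, y', hy'⟩
  refine GrothendieckTopology.superset_covering _ ?_ (family_mem T b (fun kl => hB _ _) hs)
  rw [Sieve.generate_le_iff]
  rintro _ _ ⟨kl⟩
  exact R.downward_closed (hRp kl.1) _

theorem exists_good_cover_affine (V₀ : X.ProEt) [IsAffine V₀.left] :
    ∃ (V : X.ProEt) (g : V ⟶ V₀), IsGood i V ∧
      Sieve.ofArrows (fun _ : PUnit.{u + 1} => (ProEtS.bcP i).obj V) (fun _ => (ProEtS.bcP i).map g) ∈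
        Scheme.ProEt.topology Z ((ProEtS.bcP i).obj V₀) := by
  haveI : WeaklyEtale V₀.hom := V₀.prop
  haveI : IsClosedImmersion (pullback.fst V₀.hom i) :=
    MorphismProperty.pullback_fst (P := @IsClosedImmersion) _ i ‹_›
  let f₀ : pullback V₀.hom i ⟶ Spec Γ(V₀.left, ⊤) := pullback.fst V₀.hom i ≫ V₀.left.isoSpec.hom
  haveI : IsClosedImmersion V₀.left.isoSpec.hom := inferInstance
  have hf₀ : IsClosedImmersion f₀ := inferInstanceAs (IsClosedImmersion (pullback.fst V₀.hom i ≫ V₀.left.isoSpec.hom))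
  obtain ⟨J, e, he⟩ := IsClosedImmersion.Spec_iff.1 hf₀
  obtain ⟨D, _, _, hwe, hwc, hcl, hsurj⟩ := WLocalLib.exists_wContractible_along ↥Γ(V₀.left, ⊤) J
  let φ : Γ(V₀.left, ⊤) ⟶ CommRingCat.of D := CommRingCat.ofHom (algebraMap ↥Γ(V₀.left, ⊤) D)
  haveI : WeaklyEtale (Spec.map φ) := weaklyEtale_specMap ↥Γ(V₀.left, ⊤) D
  let g₀ : Spec (CommRingCat.of D) ⟶ V₀.left := Spec.map φ ≫ V₀.left.isoSpec.inv
  let V : X.ProEt := Scheme.ProEt.mk (g₀ ≫ V₀.hom)
  let g : V ⟶ V₀ := MorphismProperty.Over.homMk g₀ rfl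
  haveI hVa : IsAffine V.left := inferInstanceAs (IsAffine (Spec (CommRingCat.of D)))
  have hrange : ∀ x : ↥(Spec Γ(V₀.left, ⊤)), J ≤ x.asIdeal →
      ∃ y : ↥(pullback V₀.hom i), (pullback.fst V₀.hom i).base y = V₀.left.isoSpec.inv.base x := by
    intro x hx
    obtain ⟨y', hy'⟩ : x ∈ Set.range (Spec.map (CommRingCat.ofHom (Ideal.Quotient.mk J))).base := by
      show x ∈ Set.range (PrimeSpectrum.comap (Ideal.Quotient.mk J))
      rw [range_comap_of_surjective _ _ Ideal.Quotient.mk_surjective, Ideal.mk_ker]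
      exact hx
    refine ⟨e.inv.base y', ?_⟩
    have e1 : e.inv ≫ pullback.fst V₀.hom i =
        Spec.map (CommRingCat.ofHom (Ideal.Quotient.mk J)) ≫ V₀.left.isoSpec.inv := by
      rw [Iso.eq_comp_inv]
      show e.inv ≫ pullback.fst V₀.hom i ≫ V₀.left.isoSpec.hom = _
      rw [show pullback.fst V₀.hom i ≫ V₀.left.isoSpec.hom = f₀ from rfl, he, Iso.inv_hom_id_assoc]
    rw [← hy']
    exact congrArg (fun m : Spec (CommRingCat.of (↥Γ(V₀.left, ⊤) ⧸ J)) ⟶ V₀.left => m.base y') e1
  refine ⟨V, g, ⟨hVa, ?_, fun v => ?_⟩, ?_⟩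
  · let e' : D ≃+* ↥(Γ(V.left, ⊤)) := (Scheme.ΓSpecIso (CommRingCat.of D)).commRingCatIsoToRingEquiv.symm
    letI : Algebra D ↥(Γ(V.left, ⊤)) := e'.toRingHom.toAlgebra
    have hb : Function.Surjective (algebraMap D ↥(Γ(V.left, ⊤))) := e'.surjective
    haveI : Module.Finite D ↥(Γ(V.left, ⊤)) := RingHom.Finite.of_surjective _ hb
    haveI : Algebra.FinitePresentation D ↥(Γ(V.left, ⊤)) := RingHom.FinitePresentation.of_bijective e'.bijective
    exact Groth.Agent.S0679.result D _ hwc
  · obtain ⟨M, hM, hvM⟩ := Ideal.exists_le_maximal (show PrimeSpectrum D from v).asIdeal (show PrimeSpectrum D from v).2.ne_top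
    refine ⟨(⟨M, hM.isPrime⟩ : PrimeSpectrum D), ?_, (PrimeSpectrum.le_iff_specializes (show PrimeSpectrum D from v) ⟨M, hM.isPrime⟩).1 hvM⟩
    obtain ⟨y, hy⟩ := hrange ((Spec.map φ).base (⟨M, hM.isPrime⟩ : PrimeSpectrum D))
      (Ideal.map_le_iff_le_comap.1 (hcl M hM))
    refine ⟨(pullback.snd V₀.hom i).base y, ?_⟩
    refine (congrArg (fun m : pullback V₀.hom i ⟶ X => m.base y) pullback.condition).symm.trans ?_
    show V₀.hom.base ((pullback.fst V₀.hom i).base y) = _
    rw [hy]
    rfl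
  · haveI : IsAffine ((ProEtS.bcP i).obj V).left := by
      haveI : IsAffineHom (pullback.fst V.hom i) := MorphismProperty.pullback_fst (P := @IsAffineHom) _ i inferInstance
      show IsAffine (pullback V.hom i)
      exact @isAffine_of_isAffineHom _ _ (pullback.fst V.hom i) ‹_› (show IsAffine V.left from hVa)
    haveI : IsAffine ((ProEtS.bcP i).obj V₀).left := by
      show IsAffine (pullback V₀.hom i)
      exact @isAffine_of_isAffineHom _ _ (pullback.fst V₀.hom i) inferInstance (show IsAffine V₀.left from ‹_›)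
    refine single_mem _ ⟨fun y => ?_⟩
    let x := V₀.left.isoSpec.hom.base ((pullback.fst V₀.hom i).base y)
    have hxJ : J ≤ x.asIdeal := by
      have : x ∈ Set.range (PrimeSpectrum.comap (Ideal.Quotient.mk J)) :=
        ⟨e.hom.base y, (congrArg (fun m : pullback V₀.hom i ⟶ Spec Γ(V₀.left, ⊤) => m.base y) he).symm⟩
      rw [range_comap_of_surjective _ _ Ideal.Quotient.mk_surjective, Ideal.mk_ker] at this
      exact this
    obtain ⟨Q, hQ, hQx⟩ := hsurj x.asIdeal x.2 hxJ
    have hg : (und g).base (⟨Q, hQ⟩ : PrimeSpectrum D) = (pullback.fst V₀.hom i).base y := by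
      show V₀.left.isoSpec.inv.base ((Spec.map φ).base (⟨Q, hQ⟩ : PrimeSpectrum D)) = _
      rw [show (Spec.map φ).base (⟨Q, hQ⟩ : PrimeSpectrum D) = x from PrimeSpectrum.ext hQx]
      show (V₀.left.isoSpec.hom ≫ V₀.left.isoSpec.inv).base _ = _
      rw [Iso.hom_inv_id]
      rfl
    obtain ⟨z, hz, -⟩ := exists_preimage_isPullback (bc_map_isPullback i g) y _ hg.symm
    exact ⟨z, hz⟩

theorem exists_good_family (W : Z.ProEt) :
    ∃ (ι : Type u) (V : ι → X.ProEt) (o : ∀ p, (ProEtS.bcP i).obj (V p) ⟶ W),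
      (∀ p, IsGood i (V p)) ∧ Sieve.ofArrows (fun p => (ProEtS.bcP i).obj (V p)) o ∈ Scheme.ProEt.topology Z W := by
  choose B o D d V r a hoi hw hB hD hd har using exists_local_lift i W
  have hA : ∀ p (x : ↥(V p).left), ∃ A : (V p).left.Opens, IsAffineOpen A ∧ x ∈ A := fun p x => by
    obtain ⟨A, hA, hxA, -⟩ := exists_isAffineOpen_mem_and_subset (x := x) (U := ⊤) trivial
    exact ⟨A, hA, hxA⟩
  choose A hA hxA using hA
  have hgood : ∀ p x, ∃ (V' : X.ProEt) (g : V' ⟶ openObj (V p) (A p x)), IsGood i V' ∧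
      Sieve.ofArrows (fun _ : PUnit.{u + 1} => (ProEtS.bcP i).obj V') (fun _ => (ProEtS.bcP i).map g) ∈
        Scheme.ProEt.topology Z ((ProEtS.bcP i).obj (openObj (V p) (A p x))) := fun p x =>
    haveI : IsAffine (openObj (V p) (A p x)).left := hA p x
    exists_good_cover_affine i (openObj (V p) (A p x))
  choose V' g hV' hcov using hgood
  refine ⟨Σ p : ↥W.left, ↥(V p).left, fun q => V' q.1 q.2,
    fun q => (ProEtS.bcP i).map (g q.1 q.2 ≫ openι (V q.1) (A q.1 q.2)) ≫ r q.1 ≫ d q.1 ≫ o q.1, fun q => hV' _ _, ?_⟩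
  have hmem : Sieve.ofArrows B o ∈ Scheme.ProEt.topology Z W :=
    ofArrows_mem_of_mem (W := W) _ _ (Scheme.zariskiPrecoverage_le_propQCPrecoverage _
      ((Scheme.ofArrows_mem_precoverage_iff _).2 ⟨fun p => ⟨p, hw p⟩, hoi⟩))
  refine GrothendieckTopology.transitive _ hmem _ fun Y h hh => ?_
  obtain ⟨p, c, rfl⟩ := (Sieve.mem_ofArrows_iff _ _ _).1 hh
  rw [Sieve.pullback_comp]
  refine GrothendieckTopology.pullback_stable _ c ?_
  haveI := hB p
  haveI := hD p
  refine GrothendieckTopology.transitive _ (single_mem (d p) (hd p)) _ fun Y' h' hh' => ?_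
  obtain ⟨-, c', rfl⟩ := (Sieve.mem_ofArrows_iff _ _ _).1 hh'
  rw [Sieve.pullback_comp]
  refine GrothendieckTopology.pullback_stable _ c' ?_
  have hr : Sieve.ofArrows (fun x : ↥(V p).left => (ProEtS.bcP i).obj (openObj (V p) (A p x)))
      (fun x => (ProEtS.bcP i).map (openι (V p) (A p x))) ∈ Scheme.ProEt.topology Z ((ProEtS.bcP i).obj (V p)) := by
    have hopen : ∀ x, IsOpenImmersion (und ((ProEtS.bcP i).map (openι (V p) (A p x)))) := fun x =>
      MorphismProperty.of_isPullback (P := @IsOpenImmersion) (bc_map_isPullback i (openι (V p) (A p x))).flip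
        (inferInstanceAs (IsOpenImmersion (A p x).ι))
    let S' := fun y : ↥((ProEtS.bcP i).obj (V p)).left => (pullback.fst (V p).hom i).base y
    have hS : Sieve.ofArrows (fun y => (ProEtS.bcP i).obj (openObj (V p) (A p (S' y))))
        (fun y => (ProEtS.bcP i).map (openι (V p) (A p (S' y)))) ∈ Scheme.ProEt.topology Z ((ProEtS.bcP i).obj (V p)) :=
      ofArrows_mem_of_mem (W := (ProEtS.bcP i).obj (V p)) _ _ (Scheme.zariskiPrecoverage_le_propQCPrecoverage _
        ((Scheme.ofArrows_mem_precoverage_iff _).2 ⟨fun y => by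
          obtain ⟨z, hz, -⟩ := exists_preimage_isPullback (bc_map_isPullback i (openι (V p) (A p (S' y)))) y
            ⟨_, hxA p (S' y)⟩ rfl
          exact ⟨y, z, hz⟩, fun y => hopen _⟩))
    refine GrothendieckTopology.superset_covering _ ?_ hS
    rw [Sieve.generate_le_iff]
    rintro _ _ ⟨y⟩
    exact Sieve.ofArrows_mk _ _ (S' y)
  refine GrothendieckTopology.superset_covering _ ?_ ((Scheme.ProEt.topology Z).pullback_stable (a p) (GrothendieckTopology.transitive _ hr
    ((Sieve.ofArrows (fun q : Σ p : ↥W.left, ↥(V p).left => (ProEtS.bcP i).obj (V' q.1 q.2))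
      (fun q => (ProEtS.bcP i).map (g q.1 q.2 ≫ openι (V q.1) (A q.1 q.2)) ≫ r q.1 ≫ d q.1 ≫ o q.1)).pullback
        (r p ≫ d p ≫ o p)) fun Y'' h'' hh'' => ?_))
  · intro T q hq
    have h2 : (Sieve.ofArrows _ _).arrows ((q ≫ a p) ≫ r p ≫ d p ≫ o p) := hq
    rw [Category.assoc, reassoc_of% (har p)] at h2
    show (Sieve.ofArrows _ _).arrows ((q ≫ d p) ≫ o p)
    rwa [Category.assoc]
  obtain ⟨x, c'', rfl⟩ := (Sieve.mem_ofArrows_iff _ _ _).1 hh''
  rw [Sieve.pullback_comp]
  refine GrothendieckTopology.pullback_stable _ c'' (GrothendieckTopology.superset_covering _ ?_ (hcov p x))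
  intro T q hq
  obtain ⟨-, c₃, rfl⟩ := (Sieve.mem_ofArrows_iff _ _ _).1 hq
  show (Sieve.ofArrows _ _).arrows (((c₃ ≫ (ProEtS.bcP i).map (g p x)) ≫ (ProEtS.bcP i).map (openι (V p) (A p x))) ≫ r p ≫ d p ≫ o p)
  rw [Category.assoc, Category.assoc, ← Functor.map_comp_assoc]
  exact (Sieve.ofArrows (fun q : Σ p : ↥W.left, ↥(V p).left => (ProEtS.bcP i).obj (V' q.1 q.2))
      (fun q => (ProEtS.bcP i).map (g q.1 q.2 ≫ openι (V q.1) (A q.1 q.2)) ≫ r q.1 ≫ d q.1 ≫ o q.1)).downward_closed
    (Sieve.ofArrows_mk _ _ (⟨p, x⟩ : Σ p : ↥W.left, ↥(V p).left)) c₃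

variable [ProEtS.PCont i]

theorem unit_bijective (V : X.ProEt) (hV : IsGood i V) (F : ProEtS.AbP X) :
    Function.Bijective (((ProEtS.pullPushAdjP i).unit.app F).hom.app (op V)) := by
  haveI := hV.affine
  refine ⟨(injective_iff_map_eq_zero _).2 fun s hs => ?_, fun t => ?_⟩
  · let R : Sieve V :=
      { arrows := fun P g => F.obj.map g.op s = 0
        downward_closed := fun {P Q g} hg q => by
          show _ = 0
          rw [← map_map, hg, map_zero] }
    exact sect_ext F R (covering_of_pushforward_good i hV.spec R (cover_eq_zero i F s hs R fun P g h => h)) s 0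
      fun P g hg => by rw [map_zero]; exact hg
  · have hR := covering_of_pushforward_good i hV.spec (Presheaf.imageSieve ((ProEtS.pullPushAdjP i).unit.app F).hom t)
      (cover_mem_image i F t _ fun P g s h => ⟨s, h⟩)
    obtain ⟨n, W, -, hdis, hcov, hW⟩ := clopenRefinement_of_wContractible V hV.wc _ hR
    choose s hs using hW
    obtain ⟨x, hx, -⟩ := (openι_isDisjointFamily V W hdis hcov).existsUnique_glue
      ((sheafCompose _ (forget AddCommGrpCat.{u + 1})).obj F) s
    obtain ⟨y, -, hu⟩ := (openι_isDisjointFamily V W hdis hcov).existsUnique_glue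
      ((sheafCompose _ (forget AddCommGrpCat.{u + 1})).obj ((ProEtS.pushP i).obj ((ProEtS.pullP i).obj F)))
      fun k => ((ProEtS.pushP i).obj ((ProEtS.pullP i).obj F)).obj.map (openι V (W k)).op t
    refine ⟨x, (hu _ fun k => ?_).trans (hu _ fun k => rfl).symm⟩
    exact ((ConcreteCategory.congr_hom (((ProEtS.pullPushAdjP i).unit.app F).hom.naturality (openι V (W k)).op) x).symm.trans
      (congrArg (((ProEtS.pullPushAdjP i).unit.app F).hom.app (op (openObj V (W k)))) (hx k))).trans (hs k)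

theorem pullP_preservesLimits (J : Type u) [SmallCategory J] : PreservesLimitsOfShape J (ProEtS.pullP i) := by
  refine ⟨fun {K} => ⟨fun {c} hc => ?_⟩⟩
  haveI hl : HasLimit (K ⋙ ProEtS.pullP i) := inferInstance
  let φ := limit.lift _ ((ProEtS.pullP i).mapCone c)
  suffices IsIso φ by
    haveI : IsIso ((limit.isLimit (K ⋙ ProEtS.pullP i)).lift ((ProEtS.pullP i).mapCone c)) := this
    exact ⟨IsLimit.ofPointIso (limit.isLimit _)⟩
  have hbij : ∀ V : X.ProEt, IsGood i V → Function.Bijective (φ.hom.app (op ((ProEtS.bcP i).obj V))) := fun V hV => by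
    let evX := sheafToPresheaf (Scheme.ProEt.topology X) AddCommGrpCat.{u + 1} ⋙ (evaluation _ _).obj (op V)
    let evZ := sheafToPresheaf (Scheme.ProEt.topology Z) AddCommGrpCat.{u + 1} ⋙
      (evaluation _ _).obj (op ((ProEtS.bcP i).obj V))
    let α : evX ⟶ ProEtS.pullP i ⋙ evZ :=
      { app := fun F => ((ProEtS.pullPushAdjP i).unit.app F).hom.app (op V)
        naturality := fun F G m =>
          congrArg (fun n : F ⟶ (ProEtS.pushP i).obj ((ProEtS.pullP i).obj G) => n.hom.app (op V))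
            ((ProEtS.pullPushAdjP i).unit.naturality m) }
    haveI : ∀ F, IsIso (α.app F) := fun F => (ConcreteCategory.isIso_iff_bijective _).2 (unit_bijective i V hV F)
    haveI : IsIso α := NatIso.isIso_of_isIso_app α
    have h1 : IsLimit ((ProEtS.pullP i ⋙ evZ).mapCone c) := IsLimit.mapConeEquiv (asIso α) (isLimitOfPreserves evX hc)
    have h2 : IsLimit (evZ.mapCone (limit.cone (K ⋙ ProEtS.pullP i))) := isLimitOfPreserves evZ (limit.isLimit _)
    have h3 : h2.lift (evZ.mapCone ((ProEtS.pullP i).mapCone c)) = evZ.map φ := h2.hom_ext fun j => by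
      rw [h2.fac]
      show _ = evZ.map φ ≫ evZ.map (limit.π _ j)
      rw [← Functor.map_comp, limit.lift_π]
      rfl
    haveI : IsIso (h2.lift (evZ.mapCone ((ProEtS.pullP i).mapCone c))) :=
      (IsLimit.conePointUniqueUpToIso (show IsLimit (evZ.mapCone ((ProEtS.pullP i).mapCone c)) from h1) h2).isIso_hom
    haveI : IsIso (φ.hom.app (op ((ProEtS.bcP i).obj V))) := by
      show IsIso (evZ.map φ)
      rw [← h3]; infer_instance
    exact ConcreteCategory.bijective_of_isIso _
  haveI : Sheaf.IsLocallyInjective φ := ⟨fun {W} a b hab => by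
    obtain ⟨ι, V, o, hV, hmem⟩ := exists_good_family i W.unop
    refine GrothendieckTopology.superset_covering _ ?_ hmem
    rw [Sieve.generate_le_iff]
    rintro _ _ ⟨p⟩
    refine (hbij _ (hV p)).1 ?_
    refine (ConcreteCategory.congr_hom (φ.hom.naturality (o p).op) a).trans
      (Eq.trans ?_ (ConcreteCategory.congr_hom (φ.hom.naturality (o p).op) b).symm)
    exact congrArg (((limit (K ⋙ ProEtS.pullP i)).obj.map (o p).op)) hab⟩
  haveI : Sheaf.IsLocallySurjective φ := ⟨fun {W} t => by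
    obtain ⟨ι, V, o, hV, hmem⟩ := exists_good_family i W
    refine GrothendieckTopology.superset_covering _ ?_ hmem
    rw [Sieve.generate_le_iff]
    rintro _ _ ⟨p⟩
    exact (hbij _ (hV p)).2 _⟩
  exact (Sheaf.isLocallyBijective_iff_isIso φ).1 ⟨inferInstance, inferInstance⟩

end Groth.Agent.WCSiteLib
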