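import Groth.Agent.WCSiteLib.EvalSet
import Mathlib.CategoryTheory.InducedCategory
import Mathlib.CategoryTheory.Adjunction.PartialAdjoint
import Mathlib.CategoryTheory.Sites.Limits
import Mathlib.CategoryTheory.Limits.Shapes.Equalizers

/-! Inverse image of sheaves of sets along a closed immersion has a left adjoint. -/

set_option autoImplicit false
set_option linter.style.haveILetI false
set_option backward.isDefEq.respectTransparency false
set_option synthInstance.maxHeartbeats 400000
universe u

open CategoryTheory CategoryTheory.Limits AlgebraicGeometry Opposite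

namespace Groth.Agent.WCSiteLib

open ProEtPtsLib

variable {X Z : Scheme.{u}} (i : Z ⟶ X)

/-- Good objects for the closed immersion. -/
abbrev GoodObj [IsClosedImmersion i] : Type (u + 1) := { V : X.ProEt // IsGood i V }

variable [IsClosedImmersion i]

/-- The inclusion of the restrictions of good objects. -/
noncomputable abbrev goodIncl : InducedCategory Z.ProEt (fun v : GoodObj i => (ProEtS.bcP i).obj v.1) ⥤ Z.ProEt :=
  inducedFunctor _

theorem goodIncl_coverDense : (goodIncl i).IsCoverDense (Scheme.ProEt.topology Z) := by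
  refine ⟨fun W => ?_⟩
  obtain ⟨ι, V, o, hV, hmem⟩ := exists_good_family i W
  refine GrothendieckTopology.superset_covering _ ?_ hmem
  rw [Sieve.generate_le_iff]
  rintro _ _ ⟨p⟩
  exact ⟨⟨(⟨V p, hV p⟩ : GoodObj i), 𝟙 _, o p, Category.id_comp _⟩⟩

/-- The sheaf represented by an object. -/
noncomputable abbrev yS (V : X.ProEt) : Sheaf (Scheme.ProEt.topology X) (Type (u + 1)) :=
  (presheafToSheaf (Scheme.ProEt.topology X) (Type (u + 1))).obj (uliftYoneda.{u + 1}.obj V)

/-- Morphisms out of a representable sheaf are sections. -/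
noncomputable def secEquiv (V : X.ProEt) (F : Sheaf (Scheme.ProEt.topology X) (Type (u + 1))) :
    (yS V ⟶ F) ≃ F.obj.obj (op V) :=
  ((sheafificationAdjunction (Scheme.ProEt.topology X) (Type (u + 1))).homEquiv _ _).trans uliftYonedaEquiv

omit [IsClosedImmersion i] in
theorem secEquiv_comp (V : X.ProEt) {F F' : Sheaf (Scheme.ProEt.topology X) (Type (u + 1))} (f : yS V ⟶ F) (g : F ⟶ F') :
    secEquiv V F' (f ≫ g) = g.hom.app (op V) (secEquiv V F f) := by
  unfold secEquiv
  rw [Equiv.trans_apply, Equiv.trans_apply, Adjunction.homEquiv_naturality_right]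
  rfl

variable [ProEtS.PCont i]

/-- Evaluation on a good object. -/
noncomputable def goodEquiv (v : GoodObj i) (F : Sheaf (Scheme.ProEt.topology X) (Type (u + 1))) :
    F.obj.obj (op v.1) ≃ ((pullT i).obj F).obj.obj (op ((ProEtS.bcP i).obj v.1)) :=
  Equiv.ofBijective _ (etaT_bijective i v.1 v.2 F)

variable (G : Sheaf (Scheme.ProEt.topology Z) (Type (u + 1)))

/-- Generators of the left adjoint at `G`. -/
abbrev Gen : Type (u + 1) := Σ v : GoodObj i, G.obj.obj (op ((ProEtS.bcP i).obj v.1))

/-- Relations of the left adjoint at `G`. -/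
abbrev Rel : Type (u + 1) := Σ (j : Gen i G) (v' : GoodObj i), ((ProEtS.bcP i).obj v'.1 ⟶ (ProEtS.bcP i).obj j.1.1)

/-- The free sheaf on the generators. -/
noncomputable abbrev genSheaf : Sheaf (Scheme.ProEt.topology X) (Type (u + 1)) := ∐ fun j : Gen i G => yS j.1.1

/-- The value on a generator. -/
noncomputable def genVal {F : Sheaf (Scheme.ProEt.topology X) (Type (u + 1))} (f : genSheaf i G ⟶ F) (j : Gen i G) :
    F.obj.obj (op j.1.1) :=
  secEquiv j.1.1 F (Sigma.ι (fun j : Gen i G => yS j.1.1) j ≫ f)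

theorem genVal_comp {F F' : Sheaf (Scheme.ProEt.topology X) (Type (u + 1))} (f : genSheaf i G ⟶ F) (g : F ⟶ F') (j : Gen i G) :
    genVal i G (f ≫ g) j = g.hom.app (op j.1.1) (genVal i G f j) := by
  rw [genVal, genVal, ← Category.assoc, secEquiv_comp]

/-- First relation map. -/
noncomputable def relA : (∐ fun r : Rel i G => yS r.2.1.1) ⟶ genSheaf i G :=
  Sigma.desc fun r => Sigma.ι (fun j : Gen i G => yS j.1.1) (⟨r.2.1, G.obj.map r.2.2.op r.1.2⟩ : Gen i G)

/-- Second relation map. -/
noncomputable def relB : (∐ fun r : Rel i G => yS r.2.1.1) ⟶ genSheaf i G :=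
  Sigma.desc fun r => (secEquiv r.2.1.1 _).symm ((goodEquiv i r.2.1 _).symm
    (((pullT i).obj (genSheaf i G)).obj.map r.2.2.op (goodEquiv i r.1.1 _ (genVal i G (𝟙 _) r.1))))

theorem rel_iff {F : Sheaf (Scheme.ProEt.topology X) (Type (u + 1))} (f : genSheaf i G ⟶ F) :
    relA i G ≫ f = relB i G ≫ f ↔ ∀ r : Rel i G,
      goodEquiv i r.2.1 F (genVal i G f ⟨r.2.1, G.obj.map r.2.2.op r.1.2⟩) =
        ((pullT i).obj F).obj.map r.2.2.op (goodEquiv i r.1.1 F (genVal i G f r.1)) := by
  have key : ∀ r : Rel i G, goodEquiv i r.2.1 F (secEquiv r.2.1.1 F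
      (Sigma.ι (fun r : Rel i G => yS r.2.1.1) r ≫ relB i G ≫ f)) =
        ((pullT i).obj F).obj.map r.2.2.op (goodEquiv i r.1.1 F (genVal i G f r.1)) := fun r => by
    rw [relB, Sigma.ι_desc_assoc, secEquiv_comp, Equiv.apply_symm_apply]
    refine (etaT_natural i f r.2.1.1 _).trans ?_
    rw [show etaT i (genSheaf i G) r.2.1.1 _ = goodEquiv i r.2.1 _ _ from rfl, Equiv.apply_symm_apply]
    refine (ConcreteCategory.congr_hom (((pullT i).map f).hom.naturality r.2.2.op) _).trans ?_
    refine congrArg (((pullT i).obj F).obj.map r.2.2.op) ?_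
    refine (etaT_natural i f r.1.1.1 _).symm.trans ?_
    rw [← genVal_comp, Category.id_comp]
    rfl
  have keyA : ∀ r : Rel i G, secEquiv r.2.1.1 F (Sigma.ι (fun r : Rel i G => yS r.2.1.1) r ≫ relA i G ≫ f) =
      genVal i G f ⟨r.2.1, G.obj.map r.2.2.op r.1.2⟩ := fun r => by
    rw [relA, Sigma.ι_desc_assoc]
    rfl
  refine ⟨fun h r => ?_, fun h => Sigma.hom_ext _ _ fun r => ?_⟩
  · rw [← keyA r, h, key r]
  · apply (secEquiv r.2.1.1 F).injective
    apply (goodEquiv i r.2.1 F).injective
    rw [keyA r, key r]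
    exact h r

/-- Maps of the restrictions are compatible families on the generators. -/
noncomputable def relEquiv (F : Sheaf (Scheme.ProEt.topology X) (Type (u + 1))) :
    { f : genSheaf i G ⟶ F // relA i G ≫ f = relB i G ≫ f } ≃
      ((goodIncl i).op ⋙ G.obj ⟶ (goodIncl i).op ⋙ ((pullT i).obj F).obj) where
  toFun f :=
    { app := fun v => TypeCat.ofHom fun z => goodEquiv i v.unop F (genVal i G f.1 ⟨v.unop, z⟩)
      naturality := fun v v' c => by
        ext z
        exact (rel_iff i G f.1).1 f.2 ⟨⟨v.unop, z⟩, v'.unop, c.unop.hom⟩ }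
  invFun τ := ⟨Sigma.desc fun j => (secEquiv j.1.1 F).symm ((goodEquiv i j.1 F).symm (τ.app (op j.1) j.2)),
    (rel_iff i G _).2 fun r => by
      simp only [genVal, Sigma.ι_desc, Equiv.apply_symm_apply]
      exact ConcreteCategory.congr_hom (τ.naturality
        (X := op r.1.1) (Y := op r.2.1) 
          (InducedCategory.homMk (F := fun v : GoodObj i => (ProEtS.bcP i).obj v.1) (X := r.2.1) (Y := r.1.1) r.2.2).op)
        r.1.2⟩
  left_inv f := by
    refine Subtype.ext (Sigma.hom_ext _ _ fun j => ?_)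
    simp only [Sigma.ι_desc]
    rw [Equiv.symm_apply_eq]
    exact (goodEquiv i j.1 F).symm_apply_apply _
  right_inv τ := by
    ext v z
    simp only [genVal]
    show goodEquiv i v.unop F (secEquiv v.unop.1 F (Sigma.ι (fun j : Gen i G => yS j.1.1) ⟨v.unop, z⟩ ≫ Sigma.desc _)) = _
    rw [Sigma.ι_desc, Equiv.apply_symm_apply, Equiv.apply_symm_apply]
    rfl

theorem pullT_isRightAdjoint : (pullT i).IsRightAdjoint := by
  refine Functor.isRightAdjoint_of_leftAdjointObjIsDefined_eq_top (funext fun G => eq_true ?_)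
  haveI := goodIncl_coverDense i
  let E : ∀ F, (coequalizer (relA i G) (relB i G) ⟶ F) ≃ (G ⟶ (pullT i).obj F) := fun F =>
    (Cofork.IsColimit.homIso (coequalizerIsCoequalizer (relA i G) (relB i G)) F).trans
      ((relEquiv i G F).trans
        ((Functor.IsCoverDense.restrictHomEquivHom (G := goodIncl i)).trans
          (fullyFaithfulSheafToPresheaf _ _).homEquiv.symm))
  refine Functor.CorepresentableBy.isCorepresentable (X := coequalizer (relA i G) (relB i G))
    { homEquiv := fun {F} => E F
      homEquiv_comp := fun {F F'} g f => ?_ }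
  apply Sheaf.hom_ext
  show Functor.IsCoverDense.restrictHomEquivHom (G := goodIncl i) _ =
    Functor.IsCoverDense.restrictHomEquivHom (G := goodIncl i) _ ≫ ((pullT i).map g).hom
  rw [← Functor.IsCoverDense.restrictHomEquivHom_naturality_right]
  refine congrArg _ ?_
  ext v z
  show goodEquiv i v.unop F' (genVal i G (coequalizer.π _ _ ≫ f ≫ g) ⟨v.unop, z⟩) =
    ((pullT i).map g).hom.app _ (goodEquiv i v.unop F (genVal i G (coequalizer.π _ _ ≫ f) ⟨v.unop, z⟩))
  rw [← Category.assoc, genVal_comp]
  exact etaT_natural i g v.unop.1 _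

end Groth.Agent.WCSiteLib
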