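import Groth.Agent.WCSiteLib.Coprod
import Mathlib.CategoryTheory.Functor.Flat
import Mathlib.CategoryTheory.Functor.KanExtension.Adjunction
import Mathlib.CategoryTheory.Limits.Types.Filtered
import Mathlib.CategoryTheory.MorphismProperty.OverAdjunction

/-! Left Kan extensions along base change of pro-étale sites, on affine weakly contractible objects. -/

set_option autoImplicit false
set_option linter.style.haveILetI false
set_option backward.isDefEq.respectTransparency false
universe u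

open CategoryTheory CategoryTheory.Limits AlgebraicGeometry Opposite

namespace Groth.Agent.WCSiteLib

open ProEtPtsLib

variable {X Y : Scheme.{u}} (f : X ⟶ Y)

theorem bcP_preservesFiniteLimits : PreservesFiniteLimits (ProEtS.bcP f) := by
  haveI : PreservesFiniteLimits (Scheme.ProEt.forget Y ⋙ Over.pullback f) := by
    haveI : PreservesFiniteLimits (Scheme.ProEt.forget Y) :=
      inferInstanceAs (PreservesFiniteLimits (MorphismProperty.Over.forget (@WeaklyEtale) ⊤ Y))
    haveI := (Over.mapPullbackAdj f).rightAdjoint_preservesLimits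
    infer_instance
  haveI : PreservesFiniteLimits (ProEtS.bcP f ⋙ Scheme.ProEt.forget X) :=
    preservesFiniteLimits_of_natIso (NatIso.ofComponents (fun U => Iso.refl _) :
      Scheme.ProEt.forget Y ⋙ Over.pullback f ≅ ProEtS.bcP f ⋙ Scheme.ProEt.forget X)
  exact preservesFiniteLimits_of_reflects_of_preserves (ProEtS.bcP f) (Scheme.ProEt.forget X)

variable (P : Y.ProEtᵒᵖ ⥤ Type (u + 1))

/-- An element of the left Kan extension. -/
noncomputable def lanEl (W : X.ProEt) (V : Y.ProEt) (a : W ⟶ (ProEtS.bcP f).obj V) (s : P.obj (op V)) :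
    ((ProEtS.bcP f).op.lan.obj P).obj (op W) :=
  ((ProEtS.bcP f).op.lan.obj P).map a.op (((ProEtS.bcP f).op.lanUnit.app P).app (op V) s)

theorem lanEl_map {W W' : X.ProEt} (b : W' ⟶ W) (V : Y.ProEt) (a : W ⟶ (ProEtS.bcP f).obj V) (s : P.obj (op V)) :
    ((ProEtS.bcP f).op.lan.obj P).map b.op (lanEl f P W V a s) = lanEl f P W' V (b ≫ a) s := by
  rw [lanEl, lanEl, op_comp, Functor.map_comp]; rfl

theorem lanEl_comp {W : X.ProEt} {V V' : Y.ProEt} (p : V' ⟶ V) (a : W ⟶ (ProEtS.bcP f).obj V') (s : P.obj (op V)) :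
    lanEl f P W V' a (P.map p.op s) = lanEl f P W V (a ≫ (ProEtS.bcP f).map p) s := by
  rw [lanEl, lanEl, op_comp, Functor.map_comp]
  exact congrArg _ (ConcreteCategory.congr_hom (((ProEtS.bcP f).op.lanUnit.app P).naturality p.op) s)

theorem lanEl_jointly_surjective (W : X.ProEt) (x : ((ProEtS.bcP f).op.lan.obj P).obj (op W)) :
    ∃ V a s, lanEl f P W V a s = x := by
  obtain ⟨g, s, hs⟩ := Types.jointly_surjective_of_isColimit
    (Functor.isPointwiseLeftKanExtensionLeftKanExtensionUnit (ProEtS.bcP f).op P (op W)) x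
  exact ⟨g.left.unop, g.hom.unop, s, hs⟩

theorem lanEl_eq (W : X.ProEt) {V V' : Y.ProEt} (a : W ⟶ (ProEtS.bcP f).obj V) (a' : W ⟶ (ProEtS.bcP f).obj V')
    (s : P.obj (op V)) (s' : P.obj (op V')) (h : lanEl f P W V a s = lanEl f P W V' a' s') :
    ∃ (V'' : Y.ProEt) (a'' : W ⟶ (ProEtS.bcP f).obj V'') (p : V'' ⟶ V) (p' : V'' ⟶ V'),
      a'' ≫ (ProEtS.bcP f).map p = a ∧ a'' ≫ (ProEtS.bcP f).map p' = a' ∧ P.map p.op s = P.map p'.op s' := by
  haveI : HasFiniteLimits Y.ProEt := inferInstance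
  haveI := bcP_preservesFiniteLimits f
  haveI : RepresentablyFlat (ProEtS.bcP f) := flat_of_preservesFiniteLimits _
  haveI : IsFiltered (CostructuredArrow (ProEtS.bcP f).op (op W)) := inferInstance
  obtain ⟨g, q, q', hq⟩ := (Types.FilteredColimit.isColimit_eq_iff _
    (Functor.isPointwiseLeftKanExtensionLeftKanExtensionUnit (ProEtS.bcP f).op P (op W))
    (i := CostructuredArrow.mk a.op) (j := CostructuredArrow.mk a'.op) (xi := s) (xj := s')).1 h
  exact ⟨g.left.unop, g.hom.unop, q.left.unop, q'.left.unop,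
    congrArg Quiver.Hom.unop (CostructuredArrow.w q), congrArg Quiver.Hom.unop (CostructuredArrow.w q'), hq⟩

theorem lan_bijective [ProEtS.PCont f] (F : Sheaf (Scheme.ProEt.topology Y) (Type (u + 1))) (W : X.ProEt)
    [IsAffine W.left] (hW : ProEtS.IsWC W) :
    Function.Bijective ((toSheafify (Scheme.ProEt.topology X) ((ProEtS.bcP f).op.lan.obj F.obj)).app (op W)) := by
  refine toSheafify_bijective' _ W hW fun n Wk hdis hcov t => ?_
  obtain ⟨hcol⟩ := exists_isColimit_cofan W Wk hdis hcov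
  choose V a s hs using fun k => lanEl_jointly_surjective f F.obj _ (t k)
  let V' : ULift.{u} (Fin n) → Y.ProEt := fun k => V k.down
  obtain ⟨s₀, hs₀, -⟩ := (sigma_isDisjointFamily V').existsUnique_glue F fun k => s k.down
  let a₀ : W ⟶ (ProEtS.bcP f).obj (sigmaObj V') :=
    Cofan.IsColimit.desc hcol fun k => a k ≫ (ProEtS.bcP f).map (sigmaι V' ⟨k⟩)
  have ha₀ : ∀ k, openι W (Wk k) ≫ a₀ = a k ≫ (ProEtS.bcP f).map (sigmaι V' ⟨k⟩) :=
    fun k => Cofan.IsColimit.fac hcol _ k
  have hx : ∀ k, ((ProEtS.bcP f).op.lan.obj F.obj).map (openι W (Wk k)).op (lanEl f F.obj W (sigmaObj V') a₀ s₀) = t k :=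
    fun k => by rw [lanEl_map, ha₀, ← lanEl_comp, hs₀ ⟨k⟩]; exact hs k
  refine ⟨_, hx, fun y hy => ?_⟩
  obtain ⟨V₁, a₁, s₁, rfl⟩ := lanEl_jointly_surjective f F.obj W y
  choose V₂ a₂ p p' h1 h2 h3 using fun k => lanEl_eq f F.obj _ (openι W (Wk k) ≫ a₁) (openι W (Wk k) ≫ a₀) s₁ s₀ (by
    rw [← lanEl_map, ← lanEl_map]
    exact (hy k).trans (hx k).symm)
  let U : ULift.{u} (Fin n) → Y.ProEt := fun k => V₂ k.down
  let b : W ⟶ (ProEtS.bcP f).obj (sigmaObj U) :=
    Cofan.IsColimit.desc hcol fun k => a₂ k ≫ (ProEtS.bcP f).map (sigmaι U ⟨k⟩)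
  let q : sigmaObj U ⟶ V₁ := sigmaDesc U fun k => p k.down
  let q' : sigmaObj U ⟶ sigmaObj V' := sigmaDesc U fun k => p' k.down
  have hq : b ≫ (ProEtS.bcP f).map q = a₁ := Cofan.IsColimit.hom_ext hcol _ _ fun k => by
    show openι W (Wk k) ≫ b ≫ _ = _
    rw [← Category.assoc, show openι W (Wk k) ≫ b = _ from Cofan.IsColimit.fac hcol _ k, Category.assoc,
      ← Functor.map_comp, sigmaι_desc, h1]
    rfl
  have hq' : b ≫ (ProEtS.bcP f).map q' = a₀ := Cofan.IsColimit.hom_ext hcol _ _ fun k => by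
    show openι W (Wk k) ≫ b ≫ _ = _
    rw [← Category.assoc, show openι W (Wk k) ≫ b = _ from Cofan.IsColimit.fac hcol _ k, Category.assoc,
      ← Functor.map_comp, sigmaι_desc, h2]
    rfl
  have hs : F.obj.map q.op s₁ = F.obj.map q'.op s₀ := by
    obtain ⟨z, -, hu⟩ := (sigma_isDisjointFamily U).existsUnique_glue F fun k => F.obj.map (p k.down).op s₁
    refine (hu _ fun k => ?_).trans (hu _ fun k => ?_).symm
    · rw [← sigmaι_desc U (fun k => p k.down) k, op_comp, Functor.map_comp]; rfl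
    · rw [h3, ← sigmaι_desc U (fun k => p' k.down) k, op_comp, Functor.map_comp]; rfl
  rw [← hq, ← hq', ← lanEl_comp, ← lanEl_comp, hs]

end Groth.Agent.WCSiteLib
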