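import Groth.Agent.WCSiteLib.Lan
import Groth.Agent.WEtIndEtLib.Refine
import Groth.Agent.S0755
import Mathlib.AlgebraicGeometry.Morphisms.ClosedImmersion
import Mathlib.CategoryTheory.Sites.DenseSubsite.Basic
import Mathlib.RingTheory.Ideal.Pure
import Mathlib.Topology.Sheaves.SheafCondition.OpensLeCover

/-! Base change along a closed immersion is a dense morphism of small pro-étale sites. -/

set_option autoImplicit false
set_option linter.style.haveILetI false
set_option backward.isDefEq.respectTransparency false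
universe u

open CategoryTheory CategoryTheory.Limits AlgebraicGeometry Opposite

namespace Groth.Agent.WCSiteLib

open ProEtPtsLib

theorem exists_mul_of_flat {R S : Type u} [CommRing R] [CommRing S] (f : R →+* S) (hs : Function.Surjective f)
    (hf : f.Flat) {x : R} (hx : f x = 0) : ∃ y, f y = 0 ∧ x = y * x := by
  letI := f.toAlgebra
  haveI : Module.Flat R S := hf
  let e : (R ⧸ RingHom.ker f) ≃ₗ[R] S :=
    (Ideal.quotientKerAlgEquivOfSurjective (f := Algebra.ofId R S) hs).toLinearEquiv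
  haveI : (RingHom.ker f).Pure := Module.Flat.of_linearEquiv e
  obtain ⟨y, hy, h⟩ := Ideal.exists_eq_mul_of_pure (I := RingHom.ker f) hx
  exact ⟨y, hy, h.trans (mul_comm _ _)⟩

variable {X Z : Scheme.{u}}

theorem weaklyEtale_und {S : Scheme.{u}} {U V : S.ProEt} (g : U ⟶ V) : WeaklyEtale (und g) := by
  haveI : WeaklyEtale V.hom := V.prop
  haveI : WeaklyEtale (und g ≫ V.hom) := by
    rw [show und g ≫ V.hom = U.hom from Over.w ((Scheme.ProEt.forget S).map g)]
    exact U.prop
  exact WeaklyEtale.of_comp _ V.hom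

theorem hom_ext_und {S : Scheme.{u}} {U V : S.ProEt} {a b : U ⟶ V} (h : und a = und b) : a = b := by
  apply (Scheme.ProEt.forget S).map_injective
  ext1
  exact h

theorem exists_preimage_isPullback {P A B C : Scheme.{u}} {p : P ⟶ A} {q : P ⟶ B} {a : A ⟶ C} {b : B ⟶ C}
    (h : IsPullback p q a b) (x : A) (y : B) (e : a.base x = b.base y) : ∃ z, p.base z = x ∧ q.base z = y := by
  obtain ⟨w, hw₁, hw₂⟩ := Scheme.Pullback.exists_preimage_pullback x y e
  refine ⟨h.isoPullback.inv.base w, ?_, ?_⟩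
  · rw [← hw₁, ← h.isoPullback_inv_fst]; rfl
  · rw [← hw₂, ← h.isoPullback_inv_snd]; rfl

theorem bc_map_fst (i : Z ⟶ X) {U V : X.ProEt} (g : V ⟶ U) :
    und ((ProEtS.bcP i).map g) ≫ pullback.fst U.hom i = pullback.fst V.hom i ≫ und g :=
  pullback.lift_fst _ _ _

theorem bc_map_snd (i : Z ⟶ X) {U V : X.ProEt} (g : V ⟶ U) :
    und ((ProEtS.bcP i).map g) ≫ pullback.snd U.hom i = pullback.snd V.hom i :=
  Over.w ((Scheme.ProEt.forget Z).map ((ProEtS.bcP i).map g))

theorem bc_map_isPullback (i : Z ⟶ X) {U V : X.ProEt} (g : V ⟶ U) :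
    IsPullback (und ((ProEtS.bcP i).map g)) (pullback.fst V.hom i) (pullback.fst U.hom i) (und g) := by
  refine IsPullback.of_right ?_ (bc_map_fst i g) (IsPullback.of_hasPullback U.hom i).flip
  rw [bc_map_snd, show und g ≫ U.hom = V.hom from Over.w ((Scheme.ProEt.forget X).map g)]
  exact (IsPullback.of_hasPullback V.hom i).flip

variable (i : Z ⟶ X)

theorem bcP_locallyFaithful : (ProEtS.bcP i).IsLocallyFaithful (Scheme.ProEt.topology Z) := by
  refine ⟨fun {U V} f₁ f₂ e => ?_⟩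
  haveI := bcP_preservesFiniteLimits i
  have hl := isLimitForkMapOfIsLimit (ProEtS.bcP i) (equalizer.condition f₁ f₂) (equalizerIsEqualizer f₁ f₂)
  haveI : IsIso ((ProEtS.bcP i).map (equalizer.ι f₁ f₂)) := isIso_limit_cone_parallelPair_of_eq e hl
  have hmem : ((Sieve.equalizer f₁ f₂).functorPushforward (ProEtS.bcP i)) (𝟙 _) :=
    ⟨_, equalizer.ι f₁ f₂, inv ((ProEtS.bcP i).map (equalizer.ι f₁ f₂)), equalizer.condition f₁ f₂,
      (IsIso.inv_hom_id _).symm⟩
  rw [Sieve.id_mem_iff_eq_top.1 hmem]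
  exact GrothendieckTopology.top_mem _ _

variable [IsClosedImmersion i]

omit [IsClosedImmersion i] in
theorem exists_lift_affine [IsClosedImmersion i] {U V : X.ProEt} [IsAffine U.left] [IsAffine V.left] (X₁ : X.Opens)
    (hX₁ : IsAffineOpen X₁) (a : U.left ⟶ X₁) (ha : a ≫ X₁.ι = U.hom) (b : V.left ⟶ X₁) (hb : b ≫ X₁.ι = V.hom)
    (f : (ProEtS.bcP i).obj U ⟶ (ProEtS.bcP i).obj V) :
    ∃ (U' : X.ProEt) (g : U' ⟶ U) (l : U' ⟶ V) (s : (ProEtS.bcP i).obj U ⟶ (ProEtS.bcP i).obj U'),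
      (ProEtS.bcP i).map l = (ProEtS.bcP i).map g ≫ f ∧ s ≫ (ProEtS.bcP i).map g = 𝟙 _ := by
  haveI : IsAffine (X₁ : Scheme.{u}) := hX₁
  haveI : WeaklyEtale b := by
    haveI : WeaklyEtale (b ≫ X₁.ι) := by rw [hb]; exact V.prop
    exact WeaklyEtale.of_comp _ X₁.ι
  haveI : WeaklyEtale U.hom := U.prop
  let Po : X.ProEt := Scheme.ProEt.mk (pullback.fst a b ≫ U.hom)
  let pr₁ : Po ⟶ U := MorphismProperty.Over.homMk (pullback.fst a b) rfl
  let pr₂ : Po ⟶ V := MorphismProperty.Over.homMk (pullback.snd a b) (by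
    show pullback.snd a b ≫ V.hom = pullback.fst a b ≫ U.hom
    rw [← ha, ← hb, pullback.condition_assoc])
  haveI : IsAffine Po.left := inferInstanceAs (IsAffine (pullback a b))
  have haffbc : ∀ (W : X.ProEt) [IsAffine W.left], IsAffine (pullback W.hom i) := fun W _ => by
    haveI : IsAffineHom (pullback.fst W.hom i) := MorphismProperty.pullback_fst (P := @IsAffineHom) _ i inferInstance
    exact @isAffine_of_isAffineHom _ _ (pullback.fst W.hom i) ‹_› (inferInstanceAs (IsAffine W.left))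
  haveI := haffbc U
  haveI := haffbc Po
  let σ₀ : pullback U.hom i ⟶ pullback a b :=
    pullback.lift (pullback.fst U.hom i) (und f ≫ pullback.fst V.hom i) (by
      rw [← cancel_mono X₁.ι, Category.assoc, Category.assoc, Category.assoc, ha, hb, pullback.condition,
        pullback.condition]
      exact congrArg (· ≫ i) (Over.w ((Scheme.ProEt.forget Z).map f)).symm)
  let σ : (ProEtS.bcP i).obj U ⟶ (ProEtS.bcP i).obj Po :=
    MorphismProperty.Over.homMk
      (pullback.lift (f := Po.hom) (g := i) σ₀ (pullback.snd U.hom i) (by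
        show σ₀ ≫ pullback.fst a b ≫ U.hom = _
        rw [pullback.lift_fst_assoc, pullback.condition]))
      (pullback.lift_snd _ _ _)
  have hσfst : und σ ≫ pullback.fst Po.hom i = σ₀ := pullback.lift_fst _ _ _
  have hσ₁ : σ ≫ (ProEtS.bcP i).map pr₁ = 𝟙 _ := hom_ext_und <| pullback.hom_ext
    (by
      show (und σ ≫ und ((ProEtS.bcP i).map pr₁)) ≫ pullback.fst U.hom i = 𝟙 _ ≫ pullback.fst U.hom i
      rw [Category.assoc, bc_map_fst, ← Category.assoc, hσfst, Category.id_comp]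
      exact pullback.lift_fst _ _ _)
    (by
      show (und σ ≫ und ((ProEtS.bcP i).map pr₁)) ≫ pullback.snd U.hom i = 𝟙 _ ≫ pullback.snd U.hom i
      rw [Category.assoc, bc_map_snd, Category.id_comp]
      exact Over.w ((Scheme.ProEt.forget Z).map σ))
  have hσ₂ : σ ≫ (ProEtS.bcP i).map pr₂ = f := hom_ext_und <| pullback.hom_ext
    (by
      show (und σ ≫ und ((ProEtS.bcP i).map pr₂)) ≫ pullback.fst V.hom i = _
      rw [Category.assoc, bc_map_fst, ← Category.assoc, hσfst]
      exact pullback.lift_snd _ _ _)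
    (by
      show (und σ ≫ und ((ProEtS.bcP i).map pr₂)) ≫ pullback.snd V.hom i = _
      rw [Category.assoc, bc_map_snd]
      exact (Over.w ((Scheme.ProEt.forget Z).map σ)).trans (Over.w ((Scheme.ProEt.forget Z).map f)).symm)
  let T := pullback Po.hom i
  let π : T ⟶ pullback U.hom i := und ((ProEtS.bcP i).map pr₁)
  let s₀ : pullback U.hom i ⟶ T := und σ
  have hsπ : s₀ ≫ π = 𝟙 _ := congrArg (fun m => und m) hσ₁
  let ψ : ↥Γ(T, ⊤) →+* ↥Γ(pullback U.hom i, ⊤) := s₀.appTop.hom
  have hψπ : ∀ z, ψ (π.appTop z) = z := fun z => by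
    have := congrArg (fun m : pullback U.hom i ⟶ pullback U.hom i => m.appTop z) hsπ
    simp only [Scheme.Hom.comp_appTop, Scheme.Hom.id_appTop] at this
    exact this
  have hψs : Function.Surjective ψ := fun z => ⟨π.appTop z, hψπ z⟩
  have hψf : ψ.Flat := by
    haveI : WeaklyEtale s₀ := weaklyEtale_und σ
    exact HasRingHomProperty.appTop (P := @Flat) s₀ inferInstance
  haveI : IsClosedImmersion (pullback.fst Po.hom i) :=
    MorphismProperty.pullback_fst (P := @IsClosedImmersion) _ i inferInstance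
  haveI : IsAffine ((𝟭 Scheme).obj Po.left) := inferInstanceAs (IsAffine Po.left)
  obtain ⟨-, hγ⟩ := IsClosedImmersion.isAffine_surjective_of_isAffine (pullback.fst Po.hom i)
  let γ : ↥Γ(Po.left, ⊤) →+* ↥Γ(T, ⊤) := (pullback.fst Po.hom i).appTop.hom
  let S : Submonoid ↥Γ(Po.left, ⊤) := (IsUnit.submonoid ↥Γ(pullback U.hom i, ⊤)).comap (ψ.comp γ).toMonoidHom
  let R' := Localization S
  let loc : Γ(Po.left, ⊤) ⟶ CommRingCat.of R' := CommRingCat.ofHom (algebraMap ↥Γ(Po.left, ⊤) R')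
  haveI : Algebra.WeaklyEtale ↥Γ(Po.left, ⊤) R' := WEtNormalLib.weaklyEtale_localization _ R' S
  haveI : WeaklyEtale (Spec.map loc) := weaklyEtale_specMap ↥Γ(Po.left, ⊤) R'
  let g₀' : Spec (CommRingCat.of R') ⟶ Po.left := Spec.map loc ≫ Po.left.isoSpec.inv
  haveI : WeaklyEtale Po.hom := Po.prop
  let U' : X.ProEt := Scheme.ProEt.mk (g₀' ≫ Po.hom)
  haveI : IsAffine U'.left := inferInstanceAs (IsAffine (Spec (CommRingCat.of R')))
  haveI := haffbc U'
  let g₀ : U' ⟶ Po := MorphismProperty.Over.homMk g₀' rfl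
  let ψl : R' →+* ↥Γ(pullback U.hom i, ⊤) := IsLocalization.lift (M := S) (g := ψ.comp γ) fun y => y.2
  let lft : pullback U.hom i ⟶ Spec (CommRingCat.of R') :=
    (pullback U.hom i).isoSpec.hom ≫ Spec.map (CommRingCat.ofHom ψl)
  have hlft : lft ≫ g₀' = σ₀ := by
    have e1 : loc ≫ CommRingCat.ofHom ψl = (pullback.fst Po.hom i).appTop ≫ s₀.appTop := by
      ext z
      exact IsLocalization.lift_eq _ z
    show ((pullback U.hom i).isoSpec.hom ≫ Spec.map (CommRingCat.ofHom ψl)) ≫ Spec.map loc ≫ Po.left.isoSpec.inv = σ₀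
    rw [Category.assoc, ← Spec.map_comp_assoc, e1, ← Scheme.Hom.comp_appTop, Scheme.isoSpec_hom_naturality_assoc,
      ]
    erw [Iso.hom_inv_id, Category.comp_id]
    exact hσfst
  let s : (ProEtS.bcP i).obj U ⟶ (ProEtS.bcP i).obj U' :=
    MorphismProperty.Over.homMk
      (pullback.lift (f := U'.hom) (g := i) lft (pullback.snd U.hom i) (by
        show lft ≫ g₀' ≫ Po.hom = _
        rw [reassoc_of% hlft]
        show σ₀ ≫ pullback.fst a b ≫ U.hom = _
        rw [pullback.lift_fst_assoc, pullback.condition]))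
      (pullback.lift_snd _ _ _)
  have hs : s ≫ (ProEtS.bcP i).map g₀ = σ := hom_ext_und <| pullback.hom_ext
    (by
      show (und s ≫ und ((ProEtS.bcP i).map g₀)) ≫ pullback.fst Po.hom i = _
      rw [Category.assoc, bc_map_fst, ← Category.assoc, show und s ≫ pullback.fst U'.hom i = lft from pullback.lift_fst _ _ _]
      exact hlft.trans hσfst.symm)
    (by
      show (und s ≫ und ((ProEtS.bcP i).map g₀)) ≫ pullback.snd Po.hom i = _
      rw [Category.assoc, bc_map_snd]
      exact (Over.w ((Scheme.ProEt.forget Z).map s)).trans (Over.w ((Scheme.ProEt.forget Z).map σ)).symm)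
  let β : pullback U'.hom i ⟶ T := und ((ProEtS.bcP i).map g₀)
  have hunit : ∀ r ∈ S, IsUnit (β.appTop (γ r)) := fun r hr => by
    have e2 : β.appTop (γ r) = (pullback.fst U'.hom i).appTop (g₀'.appTop r) := by
      have := congrArg (fun m : pullback U'.hom i ⟶ Po.left => m.appTop r) (bc_map_fst i g₀)
      simp only [Scheme.Hom.comp_appTop] at this
      exact this
    rw [e2]
    refine RingHom.isUnit_map _ ?_
    have e3 : g₀'.appTop = loc ≫ (Scheme.ΓSpecIso (CommRingCat.of R')).inv := by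
      have e4 : Po.left.isoSpec.inv.appTop = (Scheme.ΓSpecIso Γ(Po.left, ⊤)).inv := by
        rw [← cancel_mono Po.left.isoSpec.hom.appTop, ← Scheme.Hom.comp_appTop, Iso.hom_inv_id]
        simp [Scheme.isoSpec]
      show (Spec.map loc ≫ Po.left.isoSpec.inv).appTop = _
      rw [Scheme.Hom.comp_appTop, e4, ← Scheme.ΓSpecIso_inv_naturality]
    rw [e3]
    show IsUnit ((Scheme.ΓSpecIso (CommRingCat.of R')).inv (algebraMap _ R' r))
    exact (IsLocalization.map_units R' (⟨r, hr⟩ : S)).map _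
  have hb : β = β ≫ π ≫ s₀ := by
    refine ext_of_isAffine ?_
    ext t
    have hx : ψ (t - π.appTop (ψ t)) = 0 := by rw [map_sub, hψπ, sub_self]
    obtain ⟨y, hy, hxy⟩ := exists_mul_of_flat ψ hψs hψf hx
    obtain ⟨r, hr⟩ := hγ (1 - y)
    have hrS : r ∈ S := by
      show IsUnit (ψ (γ r))
      rw [show γ r = 1 - y from hr, map_sub, map_one, hy, sub_zero]
      exact isUnit_one
    have h0 : β.appTop (t - π.appTop (ψ t)) = 0 := (hunit r hrS).mul_right_eq_zero.1 (by
      rw [← map_mul, show γ r = 1 - y from hr, sub_mul, one_mul, ← hxy, sub_self, map_zero])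
    rw [map_sub, sub_eq_zero] at h0
    simp only [Scheme.Hom.comp_appTop]
    exact h0
  refine ⟨U', g₀ ≫ pr₁, g₀ ≫ pr₂, s, ?_, ?_⟩
  · rw [Functor.map_comp, Functor.map_comp, Category.assoc]
    have hb' : (ProEtS.bcP i).map g₀ = (ProEtS.bcP i).map g₀ ≫ (ProEtS.bcP i).map pr₁ ≫ σ := hom_ext_und hb
    conv_lhs => rw [hb']
    rw [Category.assoc, Category.assoc, hσ₂]
  · rw [Functor.map_comp, ← Category.assoc, hs, hσ₁]

theorem bcP_locallyFull : (ProEtS.bcP i).IsLocallyFull (Scheme.ProEt.topology Z) := by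
  refine ⟨fun {U V} f => ?_⟩
  haveI : IsClosedImmersion (pullback.fst U.hom i) :=
    MorphismProperty.pullback_fst (P := @IsClosedImmersion) _ i ‹_›
  have H : ∀ p : ↥(pullback U.hom i), ∃ (U₂ : U.left.Opens), (pullback.fst U.hom i).base p ∈ U₂ ∧
      ∃ (U' : X.ProEt) (g : U' ⟶ openObj U U₂) (l : U' ⟶ V) (s : (ProEtS.bcP i).obj (openObj U U₂) ⟶ (ProEtS.bcP i).obj U'),
        (ProEtS.bcP i).map l = (ProEtS.bcP i).map (g ≫ openι U U₂) ≫ f ∧ s ≫ (ProEtS.bcP i).map g = 𝟙 _ := by
    intro p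
    obtain ⟨X₁, hX₁, hxX₁, -⟩ := exists_isAffineOpen_mem_and_subset
      (x := i.base ((pullback.snd U.hom i).base p)) (U := ⊤) trivial
    have hv : (pullback.fst V.hom i).base ((und f).base p) ∈ V.hom ⁻¹ᵁ X₁ := by
      show (((und f) ≫ pullback.fst V.hom i ≫ V.hom).base p) ∈ X₁
      rw [pullback.condition, ← Category.assoc,
        show und f ≫ pullback.snd V.hom i = pullback.snd U.hom i from Over.w ((Scheme.ProEt.forget Z).map f)]
      exact hxX₁
    obtain ⟨V₁, hV₁, hvV₁, hV₁X⟩ := exists_isAffineOpen_mem_and_subset (U := V.hom ⁻¹ᵁ X₁) hv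
    obtain ⟨O, hO, hOeq⟩ := (pullback.fst U.hom i).isClosedEmbedding.isInducing.isOpen_iff.1
      (((und f) ≫ pullback.fst V.hom i) ⁻¹ᵁ V₁).isOpen
    have hu : (pullback.fst U.hom i).base p ∈ (⟨O, hO⟩ : U.left.Opens) ⊓ U.hom ⁻¹ᵁ X₁ := by
      refine ⟨hOeq.ge hvV₁, ?_⟩
      show ((pullback.fst U.hom i ≫ U.hom).base p) ∈ X₁
      rw [pullback.condition]
      exact hxX₁
    obtain ⟨U₂, hU₂, huU₂, hU₂O⟩ := exists_isAffineOpen_mem_and_subset hu
    haveI : IsAffine (openObj U U₂).left := hU₂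
    haveI : IsAffine (openObj V V₁).left := hV₁
    haveI : IsOpenImmersion (und ((ProEtS.bcP i).map (openι V V₁))) :=
      MorphismProperty.of_isPullback (P := @IsOpenImmersion) (bc_map_isPullback i (openι V V₁)).flip
        (inferInstanceAs (IsOpenImmersion V₁.ι))
    let m : (ProEtS.bcP i).obj (openObj U U₂) ⟶ (ProEtS.bcP i).obj V := (ProEtS.bcP i).map (openι U U₂) ≫ f
    have hrange : Set.range (und m).base ⊆ Set.range (und ((ProEtS.bcP i).map (openι V V₁))).base := by
      rintro _ ⟨z, rfl⟩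
      have hz : (und ((ProEtS.bcP i).map (openι U U₂)) ≫ pullback.fst U.hom i).base z ∈ U₂ := by
        rw [bc_map_fst]
        exact ((pullback.fst (openObj U U₂).hom i).base z).2
      have hz' := hOeq.le (hU₂O hz).1
      obtain ⟨w, hw⟩ : (pullback.fst V.hom i).base ((und m).base z) ∈ Set.range (und (openι V V₁)).base :=
        ⟨⟨_, hz'⟩, rfl⟩
      obtain ⟨w', hw', -⟩ := exists_preimage_isPullback (bc_map_isPullback i (openι V V₁)) _ _ hw.symm
      exact ⟨w', hw'⟩
    let f₂ : (ProEtS.bcP i).obj (openObj U U₂) ⟶ (ProEtS.bcP i).obj (openObj V V₁) :=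
      MorphismProperty.Over.homMk (IsOpenImmersion.lift _ (und m) hrange) (by
        show IsOpenImmersion.lift _ (und m) hrange ≫ pullback.snd (openObj V V₁).hom i = _
        rw [← bc_map_snd i (openι V V₁), IsOpenImmersion.lift_fac_assoc]
        exact Over.w ((Scheme.ProEt.forget Z).map m))
    have hf₂ : f₂ ≫ (ProEtS.bcP i).map (openι V V₁) = m := hom_ext_und (IsOpenImmersion.lift_fac _ _ hrange)
    let a : (openObj U U₂).left ⟶ (X₁ : Scheme.{u}) := IsOpenImmersion.lift X₁.ι (U₂.ι ≫ U.hom) (by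
      rintro _ ⟨z, rfl⟩
      rw [Scheme.Opens.range_ι]
      exact (hU₂O z.2).2)
    let b : (openObj V V₁).left ⟶ (X₁ : Scheme.{u}) := IsOpenImmersion.lift X₁.ι (V₁.ι ≫ V.hom) (by
      rintro _ ⟨z, rfl⟩
      rw [Scheme.Opens.range_ι]
      exact hV₁X z.2)
    obtain ⟨U', g, l, s, hl, hs⟩ := exists_lift_affine i X₁ hX₁ a (IsOpenImmersion.lift_fac _ _ _) b
      (IsOpenImmersion.lift_fac _ _ _) f₂
    refine ⟨U₂, huU₂, U', g, l ≫ openι V V₁, s, ?_, hs⟩
    rw [Functor.map_comp, hl, Category.assoc, hf₂, Functor.map_comp, Category.assoc]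
  choose U₂ hp U' g l s hl hs using H
  have hoi : ∀ p, IsOpenImmersion (und ((ProEtS.bcP i).map (openι U (U₂ p)))) := fun p =>
    MorphismProperty.of_isPullback (P := @IsOpenImmersion) (bc_map_isPullback i (openι U (U₂ p))).flip
      (inferInstanceAs (IsOpenImmersion (U₂ p).ι))
  have hmem : Sieve.ofArrows (fun p => (ProEtS.bcP i).obj (openObj U (U₂ p)))
      (fun p => (ProEtS.bcP i).map (openι U (U₂ p))) ∈ Scheme.ProEt.topology Z ((ProEtS.bcP i).obj U) := by
    refine ofArrows_mem_of_mem (W := (ProEtS.bcP i).obj U) _ _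
      (Scheme.zariskiPrecoverage_le_propQCPrecoverage _ ?_)
    refine (Scheme.ofArrows_mem_precoverage_iff _).2 ⟨fun p => ?_, hoi⟩
    obtain ⟨w', hw', -⟩ := exists_preimage_isPullback (bc_map_isPullback i (openι U (U₂ p))) p ⟨_, hp p⟩ rfl
    exact ⟨p, w', hw'⟩
  refine GrothendieckTopology.transitive _ hmem _ fun Y h hh => ?_
  obtain ⟨p, c, rfl⟩ := (Sieve.mem_ofArrows_iff _ _ _).1 hh
  rw [Sieve.pullback_comp]
  refine GrothendieckTopology.pullback_stable _ c ?_
  have : ((ProEtS.bcP i).map (openι U (U₂ p))) = s p ≫ (ProEtS.bcP i).map (g p ≫ openι U (U₂ p)) := by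
    rw [Functor.map_comp, ← Category.assoc, hs, Category.id_comp]
  refine GrothendieckTopology.superset_covering _ (fun W q _ => ?_) (GrothendieckTopology.top_mem _ _)
  exact ⟨_, g p ≫ openι U (U₂ p), q ≫ s p, ⟨l p, hl p⟩, by rw [Category.assoc, ← this]⟩

end Groth.Agent.WCSiteLib
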