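import Groth.Agent.WCSiteLib.Eval
import Mathlib.CategoryTheory.Sites.DenseSubsite.Basic
import Mathlib.CategoryTheory.Limits.Types.Filtered

/-! The left adjoint of the inverse image of sheaves of sets along a closed immersion. -/

set_option autoImplicit false
set_option linter.style.haveILetI false
set_option backward.isDefEq.respectTransparency false
set_option synthInstance.maxHeartbeats 400000
universe u

open CategoryTheory CategoryTheory.Limits AlgebraicGeometry Opposite

namespace Groth.Agent.WCSiteLib

open ProEtPtsLib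

variable {X Z : Scheme.{u}} (i : Z ⟶ X) (P : X.ProEtᵒᵖ ⥤ Type (u + 1))

/-- An element of the left Kan extension of a presheaf of sets. -/
noncomputable def lanElT (W : Z.ProEt) (V : X.ProEt) (a : W ⟶ (ProEtS.bcP i).obj V) (s : P.obj (op V)) :
    ((ProEtS.bcP i).op.lan.obj P).obj (op W) :=
  ((ProEtS.bcP i).op.lan.obj P).map a.op (((ProEtS.bcP i).op.lanUnit.app P).app (op V) s)

theorem lanElT_map {W W' : Z.ProEt} (b : W' ⟶ W) (V : X.ProEt) (a : W ⟶ (ProEtS.bcP i).obj V) (s : P.obj (op V)) :
    ((ProEtS.bcP i).op.lan.obj P).map b.op (lanElT i P W V a s) = lanElT i P W' V (b ≫ a) s := by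
  rw [lanElT, lanElT, op_comp, Functor.map_comp]; rfl

theorem lanElT_comp {W : Z.ProEt} {V V' : X.ProEt} (p : V' ⟶ V) (a : W ⟶ (ProEtS.bcP i).obj V') (s : P.obj (op V)) :
    lanElT i P W V' a (P.map p.op s) = lanElT i P W V (a ≫ (ProEtS.bcP i).map p) s := by
  rw [lanElT, lanElT, op_comp, Functor.map_comp]
  exact congrArg _ (ConcreteCategory.congr_hom (((ProEtS.bcP i).op.lanUnit.app P).naturality p.op) s)

theorem lanElT_jointly_surjective (W : Z.ProEt) (x : ((ProEtS.bcP i).op.lan.obj P).obj (op W)) :
    ∃ V a s, lanElT i P W V a s = x := by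
  obtain ⟨g, s, hs⟩ := Types.jointly_surjective_of_isColimit
    (Functor.isPointwiseLeftKanExtensionLeftKanExtensionUnit (ProEtS.bcP i).op P (op W)) x
  exact ⟨g.left.unop, g.hom.unop, s, hs⟩

theorem lanElT_eq (W : Z.ProEt) {V : X.ProEt} (a : W ⟶ (ProEtS.bcP i).obj V) (s t : P.obj (op V))
    (h : lanElT i P W V a s = lanElT i P W V a t) :
    ∃ (V' : X.ProEt) (a' : W ⟶ (ProEtS.bcP i).obj V') (p : V' ⟶ V),
      a' ≫ (ProEtS.bcP i).map p = a ∧ P.map p.op s = P.map p.op t := by
  haveI := costructured_isFiltered i W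
  obtain ⟨g, q, q', hq⟩ := (Types.FilteredColimit.isColimit_eq_iff _
    (Functor.isPointwiseLeftKanExtensionLeftKanExtensionUnit (ProEtS.bcP i).op P (op W))
    (i := CostructuredArrow.mk a.op) (j := CostructuredArrow.mk a.op) (xi := s) (xj := t)).1 h
  let g' := IsFiltered.coeq q q'
  let r := q ≫ IsFiltered.coeqHom q q'
  have hr : r = q' ≫ IsFiltered.coeqHom q q' := IsFiltered.coeq_condition q q'
  refine ⟨g'.left.unop, g'.hom.unop, r.left.unop, congrArg Quiver.Hom.unop (CostructuredArrow.w r), ?_⟩
  have e : (CostructuredArrow.proj (ProEtS.bcP i).op (op W) ⋙ P).map r s =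
      (CostructuredArrow.proj (ProEtS.bcP i).op (op W) ⋙ P).map r t := by
    conv_rhs => rw [hr]
    simp only [r, Functor.map_comp, CategoryTheory.comp_apply]
    exact congrArg _ hq
  exact e

variable [ProEtS.PCont i]

/-- The inverse image of sheaves of sets. -/
noncomputable abbrev pullT : Sheaf (Scheme.ProEt.topology X) (Type (u + 1)) ⥤ Sheaf (Scheme.ProEt.topology Z) (Type (u + 1)) :=
  (ProEtS.bcP i).sheafPullback (Type (u + 1)) (Scheme.ProEt.topology X) (Scheme.ProEt.topology Z)

/-- The unit of the inverse image of sheaves of sets at a section. -/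
noncomputable def etaT (F : Sheaf (Scheme.ProEt.topology X) (Type (u + 1))) (V : X.ProEt) (s : F.obj.obj (op V)) :
    ((pullT i).obj F).obj.obj (op ((ProEtS.bcP i).obj V)) :=
  (((ProEtS.bcP i).sheafAdjunctionContinuous (Type (u + 1)) (Scheme.ProEt.topology X)
    (Scheme.ProEt.topology Z)).unit.app F).hom.app (op V) s

theorem etaT_map (F : Sheaf (Scheme.ProEt.topology X) (Type (u + 1))) {V V' : X.ProEt} (g : V' ⟶ V) (s : F.obj.obj (op V)) :
    etaT i F V' (F.obj.map g.op s) = ((pullT i).obj F).obj.map ((ProEtS.bcP i).map g).op (etaT i F V s) :=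
  ConcreteCategory.congr_hom ((((ProEtS.bcP i).sheafAdjunctionContinuous (Type (u + 1)) (Scheme.ProEt.topology X)
    (Scheme.ProEt.topology Z)).unit.app F).hom.naturality g.op) s

theorem etaT_natural {F F' : Sheaf (Scheme.ProEt.topology X) (Type (u + 1))} (m : F ⟶ F') (V : X.ProEt) (s : F.obj.obj (op V)) :
    etaT i F' V (m.hom.app (op V) s) = ((pullT i).map m).hom.app (op ((ProEtS.bcP i).obj V)) (etaT i F V s) :=
  congrArg (fun n : F ⟶ _ => n.hom.app (op V) s)
    (((ProEtS.bcP i).sheafAdjunctionContinuous (Type (u + 1)) (Scheme.ProEt.topology X)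
      (Scheme.ProEt.topology Z)).unit.naturality m)

/-- Comparison of the chosen inverse image with the explicit construction. -/
noncomputable def pullCmpT (F : Sheaf (Scheme.ProEt.topology X) (Type (u + 1))) :
    (pullT i).obj F ≅
      (Functor.sheafPullbackConstruction.sheafPullback (ProEtS.bcP i) (Type (u + 1))
        (Scheme.ProEt.topology X) (Scheme.ProEt.topology Z)).obj F :=
  (((ProEtS.bcP i).sheafAdjunctionContinuous (Type (u + 1)) (Scheme.ProEt.topology X)
    (Scheme.ProEt.topology Z)).leftAdjointUniq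
    (Functor.sheafPullbackConstruction.sheafAdjunctionContinuous (ProEtS.bcP i) (Type (u + 1))
      (Scheme.ProEt.topology X) (Scheme.ProEt.topology Z))).app F

theorem pullCmpT_unit (F : Sheaf (Scheme.ProEt.topology X) (Type (u + 1))) (V : X.ProEt) (s : F.obj.obj (op V)) :
    (pullCmpT i F).hom.hom.app (op ((ProEtS.bcP i).obj V)) (etaT i F V s) =
      (toSheafify (Scheme.ProEt.topology Z) ((ProEtS.bcP i).op.lan.obj F.obj)).app
        (op ((ProEtS.bcP i).obj V)) (lanElT i F.obj _ V (𝟙 _) s) := by
  let adj' := Functor.sheafPullbackConstruction.sheafAdjunctionContinuous (ProEtS.bcP i) (Type (u + 1))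
      (Scheme.ProEt.topology X) (Scheme.ProEt.topology Z)
  have h1 := congrArg (fun m : F ⟶ _ => m.hom.app (op V) s)
    (Adjunction.unit_leftAdjointUniq_hom_app ((ProEtS.bcP i).sheafAdjunctionContinuous (Type (u + 1))
      (Scheme.ProEt.topology X) (Scheme.ProEt.topology Z)) adj' F)
  refine h1.trans ?_
  have h3 : (adj'.unit.app F).hom = ((ProEtS.bcP i).op.lanUnit.app F.obj) ≫
      Functor.whiskerLeft (ProEtS.bcP i).op (toSheafify (Scheme.ProEt.topology Z) ((ProEtS.bcP i).op.lan.obj F.obj)) := by
    show (sheafToPresheaf _ _).map (adj'.unit.app F) = _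
    rw [show adj' = Functor.sheafPullbackConstruction.sheafAdjunctionContinuous (ProEtS.bcP i) (Type (u + 1))
      (Scheme.ProEt.topology X) (Scheme.ProEt.topology Z) from rfl]
    dsimp only [Functor.sheafPullbackConstruction.sheafAdjunctionContinuous]
    rw [Adjunction.map_restrictFullyFaithful_unit_app, Adjunction.comp_unit_app]
    simp
  refine (congrArg (fun m : F.obj ⟶ _ => m.app (op V) s) h3).trans ?_
  rw [lanElT, op_id, CategoryTheory.Functor.map_id]
  rfl

variable [IsClosedImmersion i]

theorem etaT_bijective (V : X.ProEt) (hV : IsGood i V) (F : Sheaf (Scheme.ProEt.topology X) (Type (u + 1))) :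
    Function.Bijective (etaT i F V) := by
  haveI := hV.affine
  haveI := bcP_coverDense i
  haveI := bcP_locallyFull i
  let tS := toSheafify (Scheme.ProEt.topology Z) ((ProEtS.bcP i).op.lan.obj F.obj)
  refine ⟨fun s s' hs => ?_, fun t => ?_⟩
  · let R : Sieve V :=
      { arrows := fun P g => F.obj.map g.op s = F.obj.map g.op s'
        downward_closed := fun {P Q g} hg q => by
          show _ = _
          simp only [op_comp, Functor.map_comp, CategoryTheory.comp_apply, hg] }
    have hR : R.functorPushforward (ProEtS.bcP i) ∈ Scheme.ProEt.topology Z ((ProEtS.bcP i).obj V) := by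
      have h0 : tS.app (op ((ProEtS.bcP i).obj V)) (lanElT i F.obj _ V (𝟙 _) s) =
          tS.app (op ((ProEtS.bcP i).obj V)) (lanElT i F.obj _ V (𝟙 _) s') := by
        rw [← pullCmpT_unit, hs, pullCmpT_unit]
      refine GrothendieckTopology.superset_covering _ ?_
        (Presheaf.equalizerSieve_mem (Scheme.ProEt.topology Z) tS _ _ h0)
      intro W h hh
      have e : lanElT i F.obj W V h s = lanElT i F.obj W V h s' := by
        have := ((lanElT_map i F.obj h V (𝟙 _) s).symm.trans hh).trans (lanElT_map i F.obj h V (𝟙 _) s')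
        rwa [Category.comp_id] at this
      obtain ⟨V', a', p, hp, hps⟩ := lanElT_eq i F.obj W h s s' e
      exact ⟨V', p, a', hps, hp.symm⟩
    exact ((((isSheaf_iff_isSheaf_of_type _ _).1 F.property) _
      (covering_of_pushforward_good i hV.spec R hR))).isSeparatedFor.ext fun _ g hg => hg
  · let R : Sieve V :=
      { arrows := fun P g => ∃ s, etaT i F P s = ((pullT i).obj F).obj.map ((ProEtS.bcP i).map g).op t
        downward_closed := fun {P Q g} hg q => by
          obtain ⟨s, hs⟩ := hg
          refine ⟨F.obj.map q.op s, ?_⟩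
          rw [etaT_map, hs, Functor.map_comp, op_comp, Functor.map_comp]
          rfl }
    let e := pullCmpT i F
    have hR : R.functorPushforward (ProEtS.bcP i) ∈ Scheme.ProEt.topology Z ((ProEtS.bcP i).obj V) := by
      refine GrothendieckTopology.transitive _
        (Presheaf.imageSieve_mem (Scheme.ProEt.topology Z) tS (e.hom.hom.app (op ((ProEtS.bcP i).obj V)) t)) _
        fun W h hh => ?_
      obtain ⟨x, hx⟩ := hh
      obtain ⟨V'', a, s, rfl⟩ := lanElT_jointly_surjective i F.obj W x
      refine GrothendieckTopology.transitive _ ((ProEtS.bcP i).is_cover_of_isCoverDense _ W) _ fun W' k hk => ?_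
      obtain ⟨⟨P, b, c, rfl⟩⟩ := hk
      rw [Sieve.pullback_comp]
      refine GrothendieckTopology.pullback_stable _ b ?_
      refine GrothendieckTopology.transitive _
        ((ProEtS.bcP i).functorPushforward_imageSieve_mem (Scheme.ProEt.topology Z) (c ≫ h)) _ ?_
      rintro T _ ⟨Q, g, d, ⟨l, hl⟩, rfl⟩
      rw [Sieve.pullback_comp]
      refine GrothendieckTopology.pullback_stable _ d ?_
      refine GrothendieckTopology.transitive _
        ((ProEtS.bcP i).functorPushforward_imageSieve_mem (Scheme.ProEt.topology Z) ((ProEtS.bcP i).map g ≫ c ≫ a)) _ ?_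
      rintro T' _ ⟨Q', g', d', ⟨l', hl'⟩, rfl⟩
      refine GrothendieckTopology.superset_covering _ (fun T'' q _ => ?_) (GrothendieckTopology.top_mem _ _)
      have hL : (ProEtS.bcP i).map (g' ≫ l) = (((ProEtS.bcP i).map g' ≫ (ProEtS.bcP i).map g) ≫ c) ≫ h := by
        rw [Functor.map_comp, hl]; simp only [Category.assoc]
      refine ⟨Q', g' ≫ l, q ≫ d', ⟨F.obj.map l'.op s, ?_⟩, ?_⟩
      · apply (ConcreteCategory.bijective_of_isIso (e.hom.hom.app (op ((ProEtS.bcP i).obj Q')))).1
        rw [pullCmpT_unit, lanElT_comp, Category.id_comp, hl',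
          show e.hom.hom.app (op ((ProEtS.bcP i).obj Q')) (((pullT i).obj F).obj.map ((ProEtS.bcP i).map (g' ≫ l)).op t) =
            (sheafify (Scheme.ProEt.topology Z) ((ProEtS.bcP i).op.lan.obj F.obj)).map ((ProEtS.bcP i).map (g' ≫ l)).op
              (e.hom.hom.app (op ((ProEtS.bcP i).obj V)) t) from
            ConcreteCategory.congr_hom (e.hom.hom.naturality ((ProEtS.bcP i).map (g' ≫ l)).op) t,
          hL, op_comp, Functor.map_comp, CategoryTheory.comp_apply, ← hx,
          show ∀ z, (sheafify (Scheme.ProEt.topology Z) ((ProEtS.bcP i).op.lan.obj F.obj)).map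
              (((ProEtS.bcP i).map g' ≫ (ProEtS.bcP i).map g) ≫ c).op (tS.app (op W) z) =
            tS.app (op _) (((ProEtS.bcP i).op.lan.obj F.obj).map (((ProEtS.bcP i).map g' ≫ (ProEtS.bcP i).map g) ≫ c).op z) from
            fun z => (ConcreteCategory.congr_hom (tS.naturality (((ProEtS.bcP i).map g' ≫ (ProEtS.bcP i).map g) ≫ c).op) z).symm,
          lanElT_map]
        simp only [Category.assoc]
        rfl
      · rw [Category.assoc, Functor.map_comp, hl]
        simp only [Category.assoc]
    have hR' := covering_of_pushforward_good i hV.spec R hR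
    obtain ⟨n, W, -, hdis, hcov, hW⟩ := clopenRefinement_of_wContractible V hV.wc _ hR'
    choose s hs using hW
    obtain ⟨x, hx, -⟩ := (openι_isDisjointFamily V W hdis hcov).existsUnique_glue F s
    obtain ⟨y, -, hu⟩ := (openι_isDisjointFamily V W hdis hcov).existsUnique_glue
      ((ProEtS.bcP i).sheafPushforwardContinuous (Type (u + 1)) (Scheme.ProEt.topology X)
        (Scheme.ProEt.topology Z) |>.obj ((pullT i).obj F))
      fun k => ((pullT i).obj F).obj.map ((ProEtS.bcP i).map (openι V (W k))).op t
    refine ⟨x, (hu _ fun k => ?_).trans (hu _ fun k => rfl).symm⟩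
    show ((pullT i).obj F).obj.map ((ProEtS.bcP i).map (openι V (W k))).op (etaT i F V x) = _
    rw [← etaT_map, hx k, hs k]

end Groth.Agent.WCSiteLib
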