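import Groth.Agent.WCSiteLib.CoverDense
import Mathlib.CategoryTheory.Sites.Pullback
import Mathlib.CategoryTheory.Adjunction.Unique
import Mathlib.Algebra.Category.Grp.FilteredColimits
import Mathlib.Algebra.Category.Grp.Colimits

/-! Kernel and image of the unit `F ⟶ i_* i⁻¹ F`. -/

set_option autoImplicit false
set_option linter.style.haveILetI false
set_option backward.isDefEq.respectTransparency false
set_option synthInstance.maxHeartbeats 400000
universe u

open CategoryTheory CategoryTheory.Limits AlgebraicGeometry Opposite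

namespace Groth.Agent.WCSiteLib

open ProEtPtsLib

variable {X Y : Scheme.{u}} (f : X ⟶ Y) (P : Y.ProEtᵒᵖ ⥤ AddCommGrpCat.{u + 1})

/-- An element of the left Kan extension of an abelian presheaf. -/
noncomputable def lanElA (W : X.ProEt) (V : Y.ProEt) (a : W ⟶ (ProEtS.bcP f).obj V) (s : P.obj (op V)) :
    ((ProEtS.bcP f).op.lan.obj P).obj (op W) :=
  ((ProEtS.bcP f).op.lan.obj P).map a.op (((ProEtS.bcP f).op.lanUnit.app P).app (op V) s)

theorem lanElA_zero (W : X.ProEt) (V : Y.ProEt) (a : W ⟶ (ProEtS.bcP f).obj V) :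
    lanElA f P W V a 0 = 0 :=
  (congrArg _ (map_zero _)).trans (map_zero _)

theorem lanElA_map {W W' : X.ProEt} (b : W' ⟶ W) (V : Y.ProEt) (a : W ⟶ (ProEtS.bcP f).obj V) (s : P.obj (op V)) :
    ((ProEtS.bcP f).op.lan.obj P).map b.op (lanElA f P W V a s) = lanElA f P W' V (b ≫ a) s := by
  rw [lanElA, lanElA, op_comp, Functor.map_comp]; rfl

theorem lanElA_comp {W : X.ProEt} {V V' : Y.ProEt} (p : V' ⟶ V) (a : W ⟶ (ProEtS.bcP f).obj V') (s : P.obj (op V)) :
    lanElA f P W V' a (P.map p.op s) = lanElA f P W V (a ≫ (ProEtS.bcP f).map p) s := by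
  rw [lanElA, lanElA, op_comp, Functor.map_comp]
  exact congrArg _ (ConcreteCategory.congr_hom (((ProEtS.bcP f).op.lanUnit.app P).naturality p.op) s)

theorem costructured_isFiltered (W : X.ProEt) : IsFiltered (CostructuredArrow (ProEtS.bcP f).op (op W)) := by
  haveI : HasFiniteLimits Y.ProEt := inferInstance
  haveI := bcP_preservesFiniteLimits f
  haveI : RepresentablyFlat (ProEtS.bcP f) := flat_of_preservesFiniteLimits _
  infer_instance

theorem forget_preservesColimit (W : X.ProEt) :
    PreservesColimit (CostructuredArrow.proj (ProEtS.bcP f).op (op W) ⋙ P) (forget AddCommGrpCat.{u + 1}) := by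
  haveI := costructured_isFiltered f W
  haveI : PreservesFilteredColimitsOfSize.{u, u + 1} (forget AddCommGrpCat.{u + 1}) :=
    preservesFilteredColimitsOfSize_of_univLE.{u + 1, u + 1} _
  infer_instance

theorem lanElA_jointly_surjective (W : X.ProEt) (x : ((ProEtS.bcP f).op.lan.obj P).obj (op W)) :
    ∃ V a s, lanElA f P W V a s = x := by
  haveI := costructured_isFiltered f W
  haveI := forget_preservesColimit f P W
  obtain ⟨g, s, hs⟩ := Types.jointly_surjective_of_isColimit
    (isColimitOfPreserves (forget AddCommGrpCat.{u + 1})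
      (Functor.isPointwiseLeftKanExtensionLeftKanExtensionUnit (ProEtS.bcP f).op P (op W))) x
  exact ⟨g.left.unop, g.hom.unop, s, hs⟩

theorem lanElA_eq_zero (W : X.ProEt) {V : Y.ProEt} (a : W ⟶ (ProEtS.bcP f).obj V) (s : P.obj (op V))
    (h : lanElA f P W V a s = 0) :
    ∃ (V' : Y.ProEt) (a' : W ⟶ (ProEtS.bcP f).obj V') (p : V' ⟶ V),
      a' ≫ (ProEtS.bcP f).map p = a ∧ P.map p.op s = 0 := by
  haveI := costructured_isFiltered f W
  haveI := forget_preservesColimit f P W
  obtain ⟨g, q, q', hq⟩ := (Types.FilteredColimit.isColimit_eq_iff _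
    (isColimitOfPreserves (forget AddCommGrpCat.{u + 1})
      (Functor.isPointwiseLeftKanExtensionLeftKanExtensionUnit (ProEtS.bcP f).op P (op W)))
    (i := CostructuredArrow.mk a.op) (j := CostructuredArrow.mk a.op) (xi := s) (xj := (0 : P.obj (op V)))).1
      (h.trans (lanElA_zero f P W V a).symm)
  refine ⟨g.left.unop, g.hom.unop, q.left.unop, congrArg Quiver.Hom.unop (CostructuredArrow.w q), ?_⟩
  exact hq.trans (map_zero (P.map q'.left).hom)

variable {Z : Scheme.{u}} (i : Z ⟶ X) [ProEtS.PCont i]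

/-- Comparison of the chosen inverse image with the explicit construction. -/
noncomputable def pullCmp (F : ProEtS.AbP X) :
    (ProEtS.pullP i).obj F ≅
      (Functor.sheafPullbackConstruction.sheafPullback (ProEtS.bcP i) AddCommGrpCat.{u + 1}
        (Scheme.ProEt.topology X) (Scheme.ProEt.topology Z)).obj F :=
  ((ProEtS.pullPushAdjP i).leftAdjointUniq
    (Functor.sheafPullbackConstruction.sheafAdjunctionContinuous (ProEtS.bcP i) AddCommGrpCat.{u + 1}
      (Scheme.ProEt.topology X) (Scheme.ProEt.topology Z))).app F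

theorem pullCmp_unit (F : ProEtS.AbP X) (V : X.ProEt) (s : ProEtS.sectP F V) :
    (pullCmp i F).hom.hom.app (op ((ProEtS.bcP i).obj V))
        (((ProEtS.pullPushAdjP i).unit.app F).hom.app (op V) s) =
      (toSheafify (Scheme.ProEt.topology Z) ((ProEtS.bcP i).op.lan.obj F.obj)).app
        (op ((ProEtS.bcP i).obj V)) (lanElA i F.obj _ V (𝟙 _) s) := by
  let adj' := Functor.sheafPullbackConstruction.sheafAdjunctionContinuous (ProEtS.bcP i) AddCommGrpCat.{u + 1}
      (Scheme.ProEt.topology X) (Scheme.ProEt.topology Z)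
  have h1 := congrArg (fun m : F ⟶ _ => m.hom.app (op V) s)
    (Adjunction.unit_leftAdjointUniq_hom_app (ProEtS.pullPushAdjP i) adj' F)
  refine h1.trans ?_
  have h3 : (adj'.unit.app F).hom = ((ProEtS.bcP i).op.lanUnit.app F.obj) ≫
      Functor.whiskerLeft (ProEtS.bcP i).op (toSheafify (Scheme.ProEt.topology Z) ((ProEtS.bcP i).op.lan.obj F.obj)) := by
    show (sheafToPresheaf _ _).map (adj'.unit.app F) = _
    rw [show adj' = Functor.sheafPullbackConstruction.sheafAdjunctionContinuous (ProEtS.bcP i) AddCommGrpCat.{u + 1}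
      (Scheme.ProEt.topology X) (Scheme.ProEt.topology Z) from rfl]
    dsimp only [Functor.sheafPullbackConstruction.sheafAdjunctionContinuous]
    rw [Adjunction.map_restrictFullyFaithful_unit_app, Adjunction.comp_unit_app]
    simp
  refine (congrArg (fun m : F.obj ⟶ _ => m.app (op V) s) h3).trans ?_
  rw [lanElA, op_id, CategoryTheory.Functor.map_id]
  rfl

theorem cover_eq_zero (F : ProEtS.AbP X) {V : X.ProEt} (s : ProEtS.sectP F V)
    (hs : ((ProEtS.pullPushAdjP i).unit.app F).hom.app (op V) s = 0) (R : Sieve V)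
    (hR : ∀ ⦃P : X.ProEt⦄ (g : P ⟶ V), F.obj.map g.op s = 0 → R g) :
    R.functorPushforward (ProEtS.bcP i) ∈ Scheme.ProEt.topology Z ((ProEtS.bcP i).obj V) := by
  let tS := toSheafify (Scheme.ProEt.topology Z) ((ProEtS.bcP i).op.lan.obj F.obj)
  have h0 : tS.app (op ((ProEtS.bcP i).obj V)) (lanElA i F.obj _ V (𝟙 _) s) =
      tS.app (op ((ProEtS.bcP i).obj V)) 0 := by
    rw [map_zero, ← pullCmp_unit, hs, map_zero]
  refine GrothendieckTopology.superset_covering _ ?_
    (Presheaf.equalizerSieve_mem (Scheme.ProEt.topology Z) tS _ _ h0)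
  intro W h hh
  have e : lanElA i F.obj W V h s = 0 := by
    have := (lanElA_map i F.obj h V (𝟙 _) s).symm.trans (hh.trans (map_zero _))
    rwa [Category.comp_id] at this
  obtain ⟨V', a', p, hp, hps⟩ := lanElA_eq_zero i F.obj W h s e
  exact ⟨V', p, a', hR p hps, hp.symm⟩

theorem cover_mem_image [IsClosedImmersion i] (F : ProEtS.AbP X) {V : X.ProEt}
    (t : ProEtS.sectP ((ProEtS.pullP i).obj F) ((ProEtS.bcP i).obj V)) (R : Sieve V)
    (hR : ∀ ⦃P : X.ProEt⦄ (g : P ⟶ V) (s : ProEtS.sectP F P),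
      ((ProEtS.pullPushAdjP i).unit.app F).hom.app (op P) s =
        ((ProEtS.pullP i).obj F).obj.map ((ProEtS.bcP i).map g).op t → R g) :
    R.functorPushforward (ProEtS.bcP i) ∈ Scheme.ProEt.topology Z ((ProEtS.bcP i).obj V) := by
  let e := pullCmp i F
  let tS := toSheafify (Scheme.ProEt.topology Z) ((ProEtS.bcP i).op.lan.obj F.obj)
  haveI := bcP_coverDense i
  haveI := bcP_locallyFull i
  refine GrothendieckTopology.transitive _
    (Presheaf.imageSieve_mem (Scheme.ProEt.topology Z) tS (e.hom.hom.app (op ((ProEtS.bcP i).obj V)) t)) _ fun W h hh => ?_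
  obtain ⟨x, hx⟩ := hh
  obtain ⟨V'', a, s, rfl⟩ := lanElA_jointly_surjective i F.obj W x
  refine GrothendieckTopology.transitive _ ((ProEtS.bcP i).is_cover_of_isCoverDense _ W) _ fun W' k hk => ?_
  obtain ⟨⟨P, b, c, rfl⟩⟩ := hk
  rw [Sieve.pullback_comp]
  refine GrothendieckTopology.pullback_stable _ b ?_
  refine GrothendieckTopology.transitive _ ((ProEtS.bcP i).functorPushforward_imageSieve_mem (Scheme.ProEt.topology Z) (c ≫ h)) _ ?_
  rintro T _ ⟨Q, g, d, ⟨l, hl⟩, rfl⟩
  rw [Sieve.pullback_comp]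
  refine GrothendieckTopology.pullback_stable _ d ?_
  refine GrothendieckTopology.transitive _
    ((ProEtS.bcP i).functorPushforward_imageSieve_mem (Scheme.ProEt.topology Z) ((ProEtS.bcP i).map g ≫ c ≫ a)) _ ?_
  rintro T' _ ⟨Q', g', d', ⟨l', hl'⟩, rfl⟩
  refine GrothendieckTopology.superset_covering _ (fun T'' q _ => ?_) (GrothendieckTopology.top_mem _ _)
  have hL : (ProEtS.bcP i).map (g' ≫ l) = (((ProEtS.bcP i).map g' ≫ (ProEtS.bcP i).map g) ≫ c) ≫ h := by
    rw [Functor.map_comp, hl]; simp only [Category.assoc]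
  refine ⟨Q', g' ≫ l, q ≫ d', hR _ (F.obj.map l'.op s) ?_, ?_⟩
  · apply (ConcreteCategory.bijective_of_isIso (e.hom.hom.app (op ((ProEtS.bcP i).obj Q')))).1
    rw [pullCmp_unit, lanElA_comp, Category.id_comp, hl',
      show e.hom.hom.app (op ((ProEtS.bcP i).obj Q')) (((ProEtS.pullP i).obj F).obj.map ((ProEtS.bcP i).map (g' ≫ l)).op t) =
        (sheafify (Scheme.ProEt.topology Z) ((ProEtS.bcP i).op.lan.obj F.obj)).map ((ProEtS.bcP i).map (g' ≫ l)).op
          (e.hom.hom.app (op ((ProEtS.bcP i).obj V)) t) from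
        ConcreteCategory.congr_hom (e.hom.hom.naturality ((ProEtS.bcP i).map (g' ≫ l)).op) t,
      hL, op_comp, Functor.map_comp, CategoryTheory.comp_apply, ← hx,
      show ∀ z, (sheafify (Scheme.ProEt.topology Z) ((ProEtS.bcP i).op.lan.obj F.obj)).map
          (((ProEtS.bcP i).map g' ≫ (ProEtS.bcP i).map g) ≫ c).op (tS.app (op W) z) =
        tS.app (op _) (((ProEtS.bcP i).op.lan.obj F.obj).map (((ProEtS.bcP i).map g' ≫ (ProEtS.bcP i).map g) ≫ c).op z) from
        fun z => (ConcreteCategory.congr_hom (tS.naturality (((ProEtS.bcP i).map g' ≫ (ProEtS.bcP i).map g) ≫ c).op) z).symm,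
      lanElA_map]
    simp only [Category.assoc]
    rfl
  · rw [Category.assoc, Functor.map_comp, hl]
    simp only [Category.assoc]

end Groth.Agent.WCSiteLib
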